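import Cfsg.Agent.Cit.Defs

/-!
# Case (M) of D8: primitivity

`prim_of`: `R` a normal subgroup of `Q` with `⁅R, R⁆ ≤ ⟨z⟩`, minimal over `⟨z⟩`, `|R| ≤ 2^(2w+1)`; `Q` has no proper
subgroups of index at most `w`. A subgroup `U ∋ z` of `R` which is equal to or commutes with each of its conjugates is
`≤ ⟨z⟩` or `R`.
-/

set_option autoImplicit false

namespace Cfsg.Agent.OddHalf.CaseM

open Subgroup
open Cfsg.Agent.Cit (cj mem_cj conj_mem_cj conj_mem_cj_iff)

open scoped commutatorElement

section Sign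

variable {Q : Type*} [Group Q]

/-- the sign of an element of `{1, z}` -/
noncomputable def sg (c : Q) : ℤˣ := by
  classical exact if c = 1 then 1 else -1

theorem sg_one : sg (1 : Q) = 1 := by
  unfold sg; simp

theorem sg_ne {c : Q} (h : c ≠ 1) : sg c = -1 := by
  unfold sg; simp [h]

theorem sg_mul {z c d : Q} (hzz : z * z = 1) (hc : c = 1 ∨ c = z) (hd : d = 1 ∨ d = z) :
    sg (c * d) = sg c * sg d := by
  by_cases hz1 : z = 1
  · subst hz1
    rcases hc with rfl | rfl <;> rcases hd with rfl | rfl <;> simp [sg_one]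
  rcases hc with rfl | rfl
  · rw [one_mul, sg_one, one_mul]
  · rcases hd with rfl | rfl
    · rw [mul_one, sg_one, mul_one]
    · rw [hzz, sg_one, sg_ne hz1]; decide

end Sign

variable {Q : Type*} [Group Q] {z : Q} {R : Subgroup Q}

/-- the symplectic form `x ↦ sg ⁅x, a⁆` -/
noncomputable def form (hz : ∀ q : Q, q * z = z * q) (hzz : z * z = 1)
    (hcomm : ∀ a ∈ R, ∀ b ∈ R, ⁅a, b⁆ = 1 ∨ ⁅a, b⁆ = z) (a : Q) (ha : a ∈ R) : R →* ℤˣ where
  toFun x := sg ⁅(x : Q), a⁆
  map_one' := by
    rw [Subgroup.coe_one, commutatorElement_one_left, sg_one]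
  map_mul' x y := by
    have h1 : ⁅((x * y : R) : Q), a⁆ = ⁅(x : Q), a⁆ * ⁅(y : Q), a⁆ := by
      have h2 : ⁅((x * y : R) : Q), a⁆ = x * ⁅(y : Q), a⁆ * (x : Q)⁻¹ * ⁅(x : Q), a⁆ := by
        rw [Subgroup.coe_mul, commutatorElement_def, commutatorElement_def, commutatorElement_def]
        group
      have h3 : ∀ q : Q, q * ⁅(y : Q), a⁆ = ⁅(y : Q), a⁆ * q := by
        intro q
        rcases hcomm y y.2 a ha with h | h
        · rw [h, mul_one, one_mul]
        · rw [h]; exact hz q
      rw [h2, h3 x, mul_inv_cancel_right, ← h3]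
    rw [h1]
    exact sg_mul hzz (hcomm x x.2 a ha) (hcomm y y.2 a ha)

theorem prim_of [Finite Q] (hz : ∀ q : Q, q * z = z * q) (hzz : z * z = 1) (hz1 : z ≠ 1) (hzR : z ∈ R)
    (hRn : R.Normal) (hcomm : ∀ a ∈ R, ∀ b ∈ R, ⁅a, b⁆ = 1 ∨ ⁅a, b⁆ = z)
    (hmin : ∀ B : Subgroup Q, B ≤ R → B.Normal → (∀ b ∈ B, b = 1 ∨ b = z) ∨ B = R)
    (hna : ∃ a ∈ R, ∃ b ∈ R, a * b ≠ b * a) {w : ℕ} (hcard : Nat.card R ≤ 2 ^ (2 * w + 1))
    (hidx : ∀ H : Subgroup Q, H.index ≤ w → H = ⊤) (U : Subgroup Q) (hzU : z ∈ U) (hUR : U ≤ R)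
    (hU : ∀ p : Q, cj p U = U ∨ ∀ x ∈ U, ∀ y ∈ cj p U, x * y = y * x) :
    (∀ u ∈ U, u = 1 ∨ u = z) ∨ U = R := by
  classical
  by_cases hbig : ∀ u ∈ U, u = 1 ∨ u = z
  · exact Or.inl hbig
  push Not at hbig
  obtain ⟨u, hu, hu1, huz⟩ := hbig
  right
  -- `U` is not abelian
  have hUna : ∃ a ∈ U, ∃ b ∈ U, a * b ≠ b * a := by
    by_contra hab
    push Not at hab
    have hall : ∀ p : Q, ∀ x ∈ U, ∀ y ∈ cj p U, x * y = y * x := by
      intro p x hx y hy
      rcases hU p with h | h
      · rw [h] at hy; exact hab x hx y hy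
      · exact h x hx y hy
    -- the normal closure
    have hBR : normalClosure (U : Set Q) ≤ R := normalClosure_le_normal hUR
    rcases hmin _ hBR inferInstance with h1 | h1
    · rcases h1 u (subset_normalClosure hu) with h2 | h2
      · exact hu1 h2
      · exact huz h2
    · have hcen : ∀ x ∈ U, ∀ y ∈ R, x * y = y * x := by
        intro x hx y hy
        rw [← h1] at hy
        have hle : normalClosure (U : Set Q) ≤ centralizer ({x} : Set Q) := by
          rw [normalClosure, closure_le]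
          intro y hy
          rw [Group.mem_conjugatesOfSet_iff] at hy
          obtain ⟨v, hv, hvy⟩ := hy
          obtain ⟨p, rfl⟩ := isConj_iff.1 hvy
          exact mem_centralizer_singleton_iff.2 (hall p x hx _ (conj_mem_cj hv)).symm
        exact (mem_centralizer_singleton_iff.1 (hle hy)).symm
      have hn : (R ⊓ centralizer (R : Set Q)).Normal := inferInstance
      rcases hmin _ inf_le_left hn with h2 | h2
      · have h3 : u ∈ R ⊓ centralizer (R : Set Q) :=
          ⟨hUR hu, mem_centralizer_iff.2 fun y hy => (hcen u hu y hy).symm⟩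
        rcases h2 u h3 with h4 | h4
        · exact hu1 h4
        · exact huz h4
      · obtain ⟨a, ha, b, hb, hab⟩ := hna
        have h3 : b ∈ R ⊓ centralizer (R : Set Q) := by rw [h2]; exact hb
        exact hab (mem_centralizer_iff.1 h3.2 a ha)
  obtain ⟨a, ha, b, hb, hab⟩ := hUna
  -- the stabiliser
  set N : Subgroup Q := normalizer (U : Set Q) with hN
  have hmemN : ∀ p : Q, p ∈ N ↔ cj p U = U := by
    intro p
    rw [hN, mem_normalizer_iff]
    constructor
    · intro h
      ext x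
      rw [mem_cj, h]
      have e : p * (p⁻¹ * x * p) * p⁻¹ = x := by group
      rw [e]
    · intro h x
      constructor
      · intro hx
        have := conj_mem_cj (g := p) hx
        rwa [h] at this
      · intro hx
        rw [← h, mem_cj] at hx
        have e : p⁻¹ * (p * x * p⁻¹) * p = x := by group
        rwa [e] at hx
  -- representatives
  have hrep : ∀ ω : Q ⧸ N, cj (ω.out) U ≤ R := by
    intro ω
    rintro _ ⟨x, hx, rfl⟩
    exact hRn.conj_mem x (hUR hx) _
  let α : Q ⧸ N → Q := fun ω => ω.out * a * (ω.out)⁻¹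
  let β : Q ⧸ N → Q := fun ω => ω.out * b * (ω.out)⁻¹
  have hα : ∀ ω, α ω ∈ cj ω.out U := fun ω => conj_mem_cj ha
  have hβ : ∀ ω, β ω ∈ cj ω.out U := fun ω => conj_mem_cj hb
  have hαR : ∀ ω, α ω ∈ R := fun ω => hrep ω (hα ω)
  have hβR : ∀ ω, β ω ∈ R := fun ω => hrep ω (hβ ω)
  have hαβ : ∀ ω, α ω * β ω ≠ β ω * α ω := by
    intro ω h
    apply hab
    have e1 : α ω * β ω = ω.out * (a * b) * (ω.out)⁻¹ := by simp only [α, β]; group
    have e2 : β ω * α ω = ω.out * (b * a) * (ω.out)⁻¹ := by simp only [α, β]; group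
    rw [e1, e2] at h
    exact mul_left_cancel (mul_right_cancel h)
  have hne : ∀ ω ω' : Q ⧸ N, ω ≠ ω' → ∀ x ∈ cj ω.out U, ∀ y ∈ cj ω'.out U, x * y = y * x := by
    intro ω ω' hω x hx y hy
    rcases hU (ω.out⁻¹ * ω'.out) with h | h
    · exfalso
      apply hω
      have h1 := (hmemN _).2 h
      have h2 : (ω.out : Q ⧸ N) = (ω'.out : Q ⧸ N) := QuotientGroup.eq.2 h1
      rwa [QuotientGroup.out_eq', QuotientGroup.out_eq'] at h2
    · rw [mem_cj] at hx
      have hy' : ω.out⁻¹ * y * ω.out ∈ cj (ω.out⁻¹ * ω'.out) U := by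
        rw [mem_cj] at hy ⊢
        have e : (ω.out⁻¹ * ω'.out)⁻¹ * (ω.out⁻¹ * y * ω.out) * (ω.out⁻¹ * ω'.out) = ω'.out⁻¹ * y * ω'.out := by
          group
        rw [e]; exact hy
      have h1 := h _ hx _ hy'
      have e1 : ω.out⁻¹ * x * ω.out * (ω.out⁻¹ * y * ω.out) = ω.out⁻¹ * (x * y) * ω.out := by group
      have e2 : ω.out⁻¹ * y * ω.out * (ω.out⁻¹ * x * ω.out) = ω.out⁻¹ * (y * x) * ω.out := by group
      rw [e1, e2] at h1
      exact mul_left_cancel (mul_right_cancel h1)
  -- the form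
  let c : (Q ⧸ N) × Bool → Q := fun i => if i.2 then α i.1 else β i.1
  have hcR : ∀ i, c i ∈ R := by
    rintro ⟨ω, j⟩
    cases j
    · exact hβR ω
    · exact hαR ω
  let χ : R →* ((Q ⧸ N) × Bool → ℤˣ) := MonoidHom.pi fun i => form hz hzz hcomm (c i) (hcR i)
  have hχ : ∀ (x : R) i, χ x i = sg ⁅(x : Q), c i⁆ := fun x i => rfl
  have hsurj : Function.Surjective χ := by
    rw [← MonoidHom.range_eq_top, eq_top_iff]
    intro f _
    apply Subgroup.pi_mem_of_mulSingle_mem
    intro i
    rcases Int.units_eq_one_or (f i) with h1 | h1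
    · rw [h1, Pi.mulSingle_one]; exact one_mem _
    · rw [h1]
      -- the partner of `c i`
      let j : (Q ⧸ N) × Bool := (i.1, !i.2)
      refine ⟨⟨c j, hcR j⟩, ?_⟩
      funext k
      rw [hχ]
      by_cases hk : k = i
      · subst hk
        rw [Pi.mulSingle_eq_same]
        apply sg_ne
        rw [Ne, commutatorElement_eq_one_iff_mul_comm]
        obtain ⟨ω, e⟩ := k
        cases e
        · exact hαβ ω
        · exact fun h => hαβ ω h.symm
      · rw [Pi.mulSingle_eq_of_ne hk]
        have h2 : ⁅c j, c k⁆ = 1 := by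
          rw [commutatorElement_eq_one_iff_mul_comm]
          obtain ⟨ω, e⟩ := i
          obtain ⟨ω', e'⟩ := k
          by_cases hω : ω = ω'
          · subst hω
            have he : e' = !e := by
              cases e <;> cases e' <;> simp_all
            subst he
            rfl
          · have hmem : ∀ (ω : Q ⧸ N) (e : Bool), c (ω, e) ∈ cj ω.out U := by
              intro ω e
              cases e
              · exact hβ ω
              · exact hα ω
            exact hne ω ω' hω _ (hmem ω _) _ (hmem ω' _)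
        change sg ⁅c j, c k⁆ = 1
        rw [h2, sg_one]
  -- counting
  have hker : 2 ≤ Nat.card χ.ker := by
    have hzk : (⟨z, hzR⟩ : R) ∈ χ.ker := by
      rw [MonoidHom.mem_ker]
      funext i
      rw [hχ]
      have : ⁅z, c i⁆ = 1 := by
        rw [commutatorElement_eq_one_iff_mul_comm]
        exact (hz _).symm
      change sg ⁅z, c i⁆ = 1
      rw [this, sg_one]
    have hnt : Nontrivial χ.ker := ⟨⟨⟨_, hzk⟩, 1, fun h => hz1 (by
      have := congrArg (fun x : χ.ker => ((x : R) : Q)) h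
      exact this)⟩⟩
    exact Finite.one_lt_card
  have hcardR : Nat.card R = Nat.card χ.ker * 2 ^ (2 * N.index) := by
    have h1 := Subgroup.card_eq_card_quotient_mul_card_subgroup χ.ker
    rw [Nat.card_congr (QuotientGroup.quotientKerEquivOfSurjective χ hsurj).toEquiv] at h1
    rw [h1, mul_comm]
    congr 1
    rw [Nat.card_fun, Nat.card_prod, Nat.card_eq_fintype_card (α := ℤˣ), Fintype.card_units_int,
      Nat.card_eq_fintype_card (α := Bool), Fintype.card_bool, mul_comm]
    rfl
  have hw : N.index ≤ w := by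
    by_contra hlt
    push Not at hlt
    have h1 : 2 ^ (2 * w + 1) < 2 * 2 ^ (2 * N.index) := by
      rw [← pow_succ']
      exact Nat.pow_lt_pow_right (by norm_num) (by omega)
    have h2 : 2 * 2 ^ (2 * N.index) ≤ Nat.card χ.ker * 2 ^ (2 * N.index) := Nat.mul_le_mul_right _ hker
    omega
  have hNtop := hidx N hw
  have hUn : U.Normal := by
    rw [hN, normalizer_eq_top_iff] at hNtop
    exact hNtop
  rcases hmin U hUR hUn with h1 | h1
  · exfalso
    rcases h1 u hu with h2 | h2
    · exact hu1 h2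
    · exact huz h2
  · exact h1

end Cfsg.Agent.OddHalf.CaseM
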