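import Cfsg.Agent.OddHalf.CaseM.GlueM
import Cfsg.Agent.OddHalf.D8.MainE
import Cfsg.Agent.OddHalf.D1.RankOne
import Cfsg.Agent.OddHalf.Table.Iface17
import Cfsg.Agent.OddHalf.Table.LemmaS
import Cfsg.Agent.OddHalf.Soft
import Cfsg.Agent.Schreier.Cases

/-!
# Case (M) of D8: the end

`Intrinsic G M z`: `M` is a standard subgroup of `G` and `C_G(M) = ⟨z⟩`, `z ∈ M`.

`Intr`: there is no such `M` in the frame `Ctx G`. `IntrSign`: involutory outer automorphisms of `M / Z(M)` are detected
by a sign if `M` is a component of `C_G(z)` containing `z`.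

`noComp`: `MainE.NoComp` holds for `SheetM`.
-/

set_option autoImplicit false

namespace Cfsg.Agent.OddHalf.CaseM

open Subgroup Cfsg
open Cfsg.Agent.OddHalf.Iface
open Cfsg.Agent.OddHalf.D8.Sheet Cfsg.Agent.OddHalf.D8.GlueE Cfsg.Agent.OddHalf.D8.Front
open Cfsg.Agent.Cit (cj mem_cj conj_mem_cj conj_mem_cj_iff)
open Cfsg.Agent.SignalizersComponents.Components
open Cfsg.Agent.Schreier.Basic

open scoped commutatorElement

universe u

/-- `M` is standard in `G` and `C_G(M) = ⟨z⟩ ≤ M` -/
structure Intrinsic (G : Type u) [Group G] (M : Subgroup G) (z : G) : Prop where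
  hz : orderOf z = 2
  comp : CompOf z M
  zM : z ∈ M
  cent : centralizer (M : Set G) = zpowers z
  norm : normalizer (M : Set G) = centralizer ({z} : Set G)
  std : IsStandardSubgroup M
  ne_top : M ≠ ⊤
  z2 : IsPGroup 2 ↥(center ↥M)
  rk2 : ¬ PRankLE 2 1 ↥M
  simple : IsSimpleGroup (↥M ⧸ center ↥M)
  quo_na : ¬ IsMulCommutative (↥M ⧸ center ↥M)
  known : IsKnownSimple' (↥M ⧸ center ↥M)

/-- no intrinsic standard component with centralizer of order 2 -/
def Intr : Prop :=
  ∀ (G : Type u) [Group G], Ctx G → ∀ (M : Subgroup G) (z : G), Intrinsic G M z → False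

/-- signs of outer automorphisms of intrinsic components -/
def IntrSign : Prop :=
  ∀ (G : Type u) [Group G], Ctx G → ∀ (M : Subgroup G) (z : G), orderOf z = 2 → CompOf z M → z ∈ M →
    ¬ PRankLE 2 1 ↥M → IsSimpleGroup (↥M ⧸ center ↥M) → ¬ IsMulCommutative (↥M ⧸ center ↥M) →
    IsKnownSimple' (↥M ⧸ center ↥M) → Table.OutSign (↥M ⧸ center ↥M)

/-! ### perfect groups normalising a quasisimple group -/

theorem quoAut_conj' {L : Type*} [Group L] (x : L) :
    Cfsg.Agent.Schreier.Balance.quoAut L (MulAut.conj x) = MulAut.conj (QuotientGroup.mk x) := by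
  apply MulEquiv.ext
  intro y
  induction y using QuotientGroup.induction_on with
  | H a => rfl

theorem le_sup_centralizer {X : Type*} [Group X] {M P : Subgroup X} (hM : Group.IsPerfect M)
    (hSch : Sch (M ⧸ center M)) (hP : ⁅P, P⁆ = P) (hn : ∀ p ∈ P, cj p M = M) :
    P ≤ M ⊔ centralizer (M : Set X) := by
  have hPN : P ≤ normalizer (M : Set X) := by
    intro p hp
    rw [mem_normalizer_iff]
    intro x
    constructor
    · intro hx
      have := conj_mem_cj (g := p) hx
      rwa [hn p hp] at this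
    · intro hx
      rw [← hn p hp, mem_cj] at hx
      have e : p⁻¹ * (p * x * p⁻¹) * p = x := by group
      rwa [e] at hx
  set f : normalizer (M : Set X) →* MulAut (M ⧸ center M) :=
    (Cfsg.Agent.Schreier.Balance.quoAut M).comp M.normalizerMonoidHom with hf
  have hp : ⁅P.subgroupOf (normalizer (M : Set X)), P.subgroupOf (normalizer (M : Set X))⁆ =
      P.subgroupOf (normalizer (M : Set X)) := by
    apply map_injective (normalizer (M : Set X)).subtype_injective
    rw [map_commutator, subgroupOf_map_subtype, inf_of_le_left hPN, hP]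
  have h1 := hSch ((P.subgroupOf (normalizer (M : Set X))).map f) (by rw [← map_commutator, hp])
  intro p hpP
  obtain ⟨q, hq⟩ := h1 ⟨⟨p, hPN hpP⟩, mem_subgroupOf.2 hpP, rfl⟩
  induction q using QuotientGroup.induction_on with
  | H m =>
    rw [← quoAut_conj', hf, MonoidHom.comp_apply] at hq
    have h2 := Cfsg.Agent.Schreier.Balance.quoAut_injective hM hq
    have h3 : ∀ x ∈ M, (m : X) * x * (m : X)⁻¹ = p * x * p⁻¹ := by
      intro x hx
      have h4 := congrArg (fun φ : MulAut M => ((φ ⟨x, hx⟩ : M) : X)) h2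
      exact h4
    have h5 : (m : X)⁻¹ * p ∈ centralizer (M : Set X) := by
      rw [mem_centralizer_iff]
      intro x hx
      calc x * ((m : X)⁻¹ * p) = (m : X)⁻¹ * (m * x * (m : X)⁻¹) * p := by group
        _ = (m : X)⁻¹ * (p * x * p⁻¹) * p := by rw [h3 x hx]
        _ = (m : X)⁻¹ * p * x := by group
    have h6 : p = m * ((m : X)⁻¹ * p) := by group
    rw [h6]
    exact mul_mem (mem_sup_left m.2) (mem_sup_right h5)

/-! ### classical involutions -/

section

variable {G : Type u} [Group G]

theorem oddCore_eq_bot (C : Ctx G) {z : G} (hz : orderOf z = 2) {J : Subgroup G} (hJ : CompOf z J) :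
    oddCore ↥J = ⊥ := by
  have := C.fin
  have e0 : ↥(J.subgroupOf (centralizer ({z} : Set G))) ≃* ↥J := subgroupOfEquivOfLe hJ.1
  have hbal : pPrimeCore 2 ↥(centralizer ({z} : Set G)) = ⊥ := by
    have h1 := C.bal z hz
    rw [centralizerPPrimeCore, Subgroup.map_eq_bot_iff_of_injective _ (subtype_injective _)] at h1
    exact h1
  have hO' : oddCore ↥(J.subgroupOf (centralizer ({z} : Set G))) = ⊥ := by
    have h1 := Lib.PComponents.map_pPrimeCore_le_of_isSubnormal (p := 2) hJ.2.1
    rw [hbal, le_bot_iff, Subgroup.map_eq_bot_iff_of_injective _ (subtype_injective _)] at h1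
    exact h1
  have h1 := Lib.Cores.map_equiv_pPrimeCore e0 2
  rw [show pPrimeCore 2 ↥(J.subgroupOf (centralizer ({z} : Set G))) = ⊥ from hO', Subgroup.map_bot] at h1
  exact h1.symm

/-- a component of `C(z)` containing `z` has 2-rank at least 2 -/
theorem rank_two (C : Ctx G) (hGW : SylowSp4.Hyps.GW.{u}) {z : G} (hz : orderOf z = 2) {J : Subgroup G}
    (hJ : CompOf z J) (hzJ : z ∈ J) : ¬ PRankLE 2 1 ↥J := by
  intro hrk
  have hfin := C.fin
  have hO := oddCore_eq_bot C hz hJ
  have hq : IsQuasisimple ↥J := Soft.CompOf.quasisimple hJ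
  have e1 : ↥J ⧸ oddCore ↥J ≃* ↥J := (QuotientGroup.quotientMulEquivOfEq hO).trans QuotientGroup.quotientBot
  have hid := (D1.identify (K := ↥J ⧸ oddCore ↥J) hGW
    (Cfsg.Agent.SignalizersComponents.QsBasic.isQuasisimple_of_mulEquiv e1.symm hq) (by
      have h1 := Lib.Cores.map_equiv_pPrimeCore e1.symm 2
      rw [show pPrimeCore 2 ↥J = ⊥ from hO, Subgroup.map_bot] at h1
      exact h1.symm) (D1.rankLE_of_injective e1.toMonoidHom e1.injective hrk)).2
  exact C.classical z J hz ⟨hJ.1, hzJ, hJ.2.1⟩ hid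

/-- a component of an involution centralizer has even order -/
theorem even_card (C : Ctx G) {z : G} (hz : orderOf z = 2) {J : Subgroup G} (hJ : CompOf z J) :
    2 ∣ Nat.card J := by
  have hfin := C.fin
  by_contra h2
  have hO := oddCore_eq_bot C hz hJ
  have h1 : pPrimeCore 2 ↥J = ⊤ :=
    (Lib.Cores.pPrimeCore_eq_top_iff (G := ↥J) 2).2 (((Nat.Prime.coprime_iff_not_dvd Nat.prime_two).2 h2).symm)
  have hq : IsQuasisimple ↥J := Soft.CompOf.quasisimple hJ
  have := quasisimple_nontrivial hq
  have h3 : (⊤ : Subgroup J) = ⊥ := by rw [← h1]; exact hO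
  exact top_ne_bot h3

/-- the Schreier property of a component of an involution centralizer -/
theorem sch_of_comp (C : Ctx G) (hSch : Cfsg.Agent.Schreier.Cases.SchFor.{u} @IsKnownSimple') {z : G}
    (hz : orderOf z = 2) {J : Subgroup G} (hJ : CompOf z J) : Sch (↥J ⧸ center ↥J) := by
  have := C.fin
  have := C.simple
  have hq := Soft.CompOf.quasisimple hJ
  have hs := hq.2
  exact hSch _ (Soft.quo_na hq)
    (Known.known_quotient C.kproper J (Soft.CompOf.ne_top C.na hz hJ) _ hs (Soft.quo_na hq))

theorem compOf_map {z : G} {M : Subgroup ↥(centralizer ({z} : Set G))} (hM : IsComponent M) :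
    CompOf z (M.map (centralizer ({z} : Set G)).subtype) := by
  refine ⟨map_subtype_le _, ?_⟩
  have : (M.map (centralizer ({z} : Set G)).subtype).subgroupOf (centralizer ({z} : Set G)) = M :=
    comap_map_eq_self_of_injective (centralizer ({z} : Set G)).subtype_injective M
  rw [this]
  exact hM

/-- `P ≤ M` for every component `M` of `C_G(z)` -/
theorem main_comp (C : Ctx G) (hSch : Cfsg.Agent.Schreier.Cases.SchFor.{u} @IsKnownSimple')
    (hGW : SylowSp4.Hyps.GW.{u}) {K : Subgroup G} {t q : G} {z : K} {P R : Subgroup K}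
    (o : Out K t q z P) (sh : SheetE z P R) (m : SheetM P R)
    {M : Subgroup ↥(centralizer ({(z : G)} : Set G))} (hM : IsComponent M) :
    toX z P ≤ M ∧
      (((⟨t, mem_centralizer_singleton_iff.2 o.emb.comm⟩ : ↥(centralizer ({(z : G)} : Set G))) ∈ M) ∨
        (⟨t, mem_centralizer_singleton_iff.2 o.emb.comm⟩ : ↥(centralizer ({(z : G)} : Set G))) ∉
          M ⊔ centralizer (M : Set ↥(centralizer ({(z : G)} : Set G)))) := by
  have hfin := C.fin
  have h := hyp o sh m
  have hz := D8.MainE.orderOf_z o.emb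
  have hcomp := compOf_map hM
  have hSchM : Sch (↥M ⧸ center ↥M) := by
    have e : ↥(M.map (centralizer ({(z : G)} : Set G)).subtype) ≃* ↥M :=
      (M.equivMapOfInjective _ (centralizer ({(z : G)} : Set G)).subtype_injective).symm
    exact Cfsg.Agent.Schreier.Balance.sch_center_quotient e (sch_of_comp C hSch hz hcomp)
  have hev : 2 ∣ Nat.card M := by
    have h1 := even_card C hz hcomp
    rwa [Nat.card_congr (M.equivMapOfInjective _
      (centralizer ({(z : G)} : Set G)).subtype_injective).toEquiv.symm] at h1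
  rcases h.main hM (fun hn => le_sup_centralizer hM.2.1 hSchM h.Pperf hn) hev with ⟨hzM, huniq⟩ | ⟨hP, h2⟩
  · exfalso
    refine rank_two C hGW hz hcomp ⟨_, hzM, rfl⟩ ?_
    intro E _ hE
    -- all the elements of `E` are in `{1, z}`
    have hEz : ∀ x ∈ E, x = 1 ∨ ((x : ↥(M.map (centralizer ({(z : G)} : Set G)).subtype)) : G) = z := by
      intro x hx
      obtain ⟨y, hy, hyx⟩ := x.2
      have h1 : ((x : ↥(M.map (centralizer ({(z : G)} : Set G)).subtype)) : G) *
          ((x : ↥(M.map (centralizer ({(z : G)} : Set G)).subtype)) : G) = 1 := by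
        have := congrArg Subtype.val (hE x hx)
        rw [pow_two] at this
        exact this
      rcases huniq y hy (by
        apply Subtype.ext
        change (y : G) * y = 1
        have hyx' : (y : G) = ((x : ↥(M.map (centralizer ({(z : G)} : Set G)).subtype)) : G) := hyx
        rw [hyx']; exact h1) with e | e
      · left
        apply Subtype.ext
        rw [← hyx, e]; rfl
      · right
        rw [← hyx, e]; rfl
    have hle : E ≤ zpowers (⟨z, ⟨_, hzM, rfl⟩⟩ : ↥(M.map (centralizer ({(z : G)} : Set G)).subtype)) := by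
      intro x hx
      rcases hEz x hx with e | e
      · rw [e]; exact one_mem _
      · have : x = ⟨z, ⟨_, hzM, rfl⟩⟩ := Subtype.ext e
        rw [this]; exact mem_zpowers _
    have hcard := Subgroup.card_le_of_le hle
    rw [Nat.card_zpowers] at hcard
    have ho : orderOf (⟨z, ⟨_, hzM, rfl⟩⟩ : ↥(M.map (centralizer ({(z : G)} : Set G)).subtype)) = 2 := by
      rw [← Subgroup.orderOf_coe]; exact hz
    rw [ho] at hcard
    exact hcard
  · refine ⟨hP, ?_⟩
    rcases h2 with h3 | h3
    · exact Or.inl h3.1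
    · exact Or.inr h3

/-- **case (M)** -/
theorem noComp (hSch : Cfsg.Agent.Schreier.Cases.SchFor.{u} @IsKnownSimple')
    (hGW : SylowSp4.Hyps.GW.{u}) (hI : Intr.{u}) (hS : IntrSign.{u}) :
    D8.MainE.NoComp.{u} (fun _ _ _ P R => SheetM P R) := by
  intro G _ C K t q z P R o sh m M hM
  have hfin := C.fin
  have hsimp := C.simple
  have h := hyp o sh m
  have hz := D8.MainE.orderOf_z o.emb
  have hcomp := compOf_map hM
  have htH : t ∈ centralizer ({(z : G)} : Set G) := mem_centralizer_singleton_iff.2 o.emb.comm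
  obtain ⟨hP, hcase⟩ := main_comp C hSch hGW o sh m hM
  have hzM : (z : G) ∈ M.map (centralizer ({(z : G)} : Set G)).subtype :=
    ⟨⟨z, mem_centralizer_singleton_iff.2 rfl⟩, hP ⟨z, sh.zP, rfl⟩, rfl⟩
  have hrk := rank_two C hGW hz hcomp hzM
  have hq := Soft.CompOf.quasisimple hcomp
  have hnt := Soft.CompOf.ne_top C.na hz hcomp
  have hkn := Known.known_quotient C.kproper _ hnt _ hq.2 (Soft.quo_na hq)
  -- `t` does not centralise `M`
  have hnc : ∃ x ∈ M.map (centralizer ({(z : G)} : Set G)).subtype, t * x ≠ x * t := by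
    by_contra hcon
    push Not at hcon
    refine h.not_quasisimple hM.2 (h.RP.trans hP) ?_
    intro x hx
    exact Subtype.ext (hcon x ⟨x, hx, rfl⟩).symm
  rcases hcase with htM | htM
  · -- `t ∈ M`
    obtain ⟨-, hcent, hnorm, hstd⟩ := Table.lemmaS (D₀ := (P.map K.subtype : Subgroup G)) hz o.emb.st.tt
      hcomp.1 hcomp.2 hzM (by
        intro d hd
        have hdH : d ∈ centralizer ({(z : G)} : Set G) := map_le_cent sh.cen hd
        exact ⟨⟨d, hdH⟩, hP hd, rfl⟩) (by
        intro y hyz hyt hyP
        have hyH : y ∈ centralizer ({(z : G)} : Set G) := mem_centralizer_singleton_iff.2 hyz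
        rcases h.cR ⟨y, hyH⟩ (Subtype.ext hyt) (by
          intro r hr
          exact Subtype.ext (hyP r (h.RP hr))) with e | e | e | e
        · exact Or.inl (congrArg Subtype.val e)
        · exact Or.inr (Or.inr (Or.inl (congrArg Subtype.val e)))
        · exact Or.inr (Or.inl (congrArg Subtype.val e))
        · exact Or.inr (Or.inr (Or.inr (congrArg Subtype.val e))))
      ⟨t, ⟨_, htM, rfl⟩, fun x _ => rfl⟩ hnc
    exact hI G C _ z
      { hz := hz
        comp := hcomp
        zM := hzM
        cent := hcent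
        norm := hnorm
        std := hstd
        ne_top := hnt
        z2 := Soft.CompOf.center_isPGroup (C.bal _ hz) hcomp
        rk2 := hrk
        simple := hq.2
        quo_na := Soft.quo_na hq
        known := hkn }
  · -- `t ∉ M C(M)`: `M` is normal
    have hcj : ∀ g : ↥(centralizer ({(z : G)} : Set G)), cj g M = M := by
      intro g
      by_contra hne
      have hM2 : IsComponent (cj g M) := Cfsg.Agent.Cit.Comp.isComponent_cj hM g
      obtain ⟨hP2, -⟩ := main_comp C hSch hGW o sh m hM2
      apply h.Rna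
      intro a ha b hb
      exact Cfsg.Agent.Cit.Comp.comm_of_ne hM hM2 (fun e => hne e.symm) (hP (h.RP ha)) (hP2 (h.RP hb))
    have hn : ∀ g ∈ centralizer ({(z : G)} : Set G), ∀ x ∈ M.map (centralizer ({(z : G)} : Set G)).subtype,
        g * x * g⁻¹ ∈ M.map (centralizer ({(z : G)} : Set G)).subtype := by
      rintro g hg _ ⟨x, hx, rfl⟩
      refine ⟨⟨g, hg⟩ * x * ⟨g, hg⟩⁻¹, ?_, rfl⟩
      have := conj_mem_cj (g := (⟨g, hg⟩ : ↥(centralizer ({(z : G)} : Set G)))) hx
      rwa [hcj] at this
    have hperf : ⁅M.map (centralizer ({(z : G)} : Set G)).subtype,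
        M.map (centralizer ({(z : G)} : Set G)).subtype⁆ = M.map (centralizer ({(z : G)} : Set G)).subtype := by
      rw [← map_commutator, isPerfect_iff.1 hM.2.1]
    obtain ⟨lam, hlam, -, -⟩ := Table.exists_lam_sub hcomp.1 hn hperf (MulEquiv.refl _)
      (hS G C _ z hz hcomp hzM hrk hq.2 (Soft.quo_na hq) hkn) htH (by
        intro x _
        rw [o.emb.st.tt, one_mul, mul_one]) (by
        rintro _ ⟨x, hx, rfl⟩ c hc hcx e
        apply htM
        have e1 : (⟨t, htH⟩ : ↥(centralizer ({(z : G)} : Set G))) = x * ⟨c, hc⟩ := Subtype.ext e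
        rw [e1]
        refine mul_mem (mem_sup_left hx) (mem_sup_right ?_)
        rw [mem_centralizer_iff]
        intro y hy
        exact Subtype.ext (hcx y ⟨y, hy, rfl⟩).symm)
    have h1 : commutator (centralizer ({(z : G)} : Set G)) ≤ lam.ker := Abelianization.commutator_subset_ker lam
    have h2 : lam ⟨t, htH⟩ = 1 := h1 o.com
    rw [h2] at hlam
    exact absurd hlam (by decide)

end

end Cfsg.Agent.OddHalf.CaseM
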