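import Cfsg.Agent.OddHalf.CaseM.End
import Cfsg.Agent.OddHalf.D9.Cut
import Cfsg.Agent.StandardComponent.AltAut
import Cfsg.Agent.Lib.CoprimeStab
import Cfsg.Agent.OddHalf.Iso5

/-!
# Signs of outer automorphisms of intrinsic components

`intrSign`: `CaseM.IntrSign` from `NI` (no intrinsic component of Lie type in odd characteristic), the 2-parts of the
Schur multipliers (`D9.Cut.Mult`) and the rows `OutSign X` (`SignRows`).
-/

set_option autoImplicit false

namespace Cfsg.Agent.OddHalf.CaseM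

open Subgroup Cfsg
open Cfsg.Agent.OddHalf.Iface Cfsg.Agent.OddHalf.D9.Cut Cfsg.Agent.OddHalf.Table

universe u

/-- `Aut(A_n) = S_n`, `n ≥ 7` -/
theorem outSign_alt {n : ℕ} (hn : 7 ≤ n) : OutSign (alternatingGroup (Fin n)) := by
  obtain ⟨m, rfl⟩ : ∃ m, n = m + 2 := ⟨n - 2, by omega⟩
  have key : ∀ α : MulAut (alternatingGroup (Fin (m + 2))), ∃ σ : Equiv.Perm (Fin (m + 2)),
      ∀ x : alternatingGroup (Fin (m + 2)), (α x : Equiv.Perm (Fin (m + 2))) = σ * x * σ⁻¹ := fun α =>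
    Cfsg.Agent.StandardComponent.AltAut.exists_conj (by omega) α
  have inner : ∀ (α : MulAut (alternatingGroup (Fin (m + 2)))) (σ : Equiv.Perm (Fin (m + 2))),
      (∀ x : alternatingGroup (Fin (m + 2)), (α x : Equiv.Perm (Fin (m + 2))) = σ * x * σ⁻¹) →
      Equiv.Perm.sign σ = 1 → ∃ x, α = MulAut.conj x := by
    intro α σ h hσ
    refine ⟨⟨σ, Equiv.Perm.mem_alternatingGroup.2 hσ⟩, ?_⟩
    apply MulEquiv.ext
    intro x
    exact Subtype.ext (h x)
  refine OutSign.of_mul_inner ?_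
  intro α β hα hβ
  obtain ⟨σ, hσ⟩ := key α
  obtain ⟨τ, hτ⟩ := key β
  have h1 : Equiv.Perm.sign σ = -1 := by
    rcases Int.units_eq_one_or (Equiv.Perm.sign σ) with h | h
    · obtain ⟨x, hx⟩ := inner α σ hσ h
      exact absurd hx (hα x)
    · exact h
  have h2 : Equiv.Perm.sign τ = -1 := by
    rcases Int.units_eq_one_or (Equiv.Perm.sign τ) with h | h
    · obtain ⟨x, hx⟩ := inner β τ hτ h
      exact absurd hx (hβ x)
    · exact h
  refine inner (α * β) (σ * τ) ?_ ?_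
  · intro x
    rw [MulAut.mul_apply, hσ, hτ]
    group
  · rw [map_mul, h1, h2]; decide

/-- no intrinsic component of Lie type in odd characteristic -/
def NI : Prop :=
  ∀ (G : Type u) [Group G], Ctx G → ∀ (z : G) (M : Subgroup G), orderOf z = 2 → CompOf z M → z ∈ M →
    LieOdd (↥M ⧸ center ↥M) → False

/-- the rows `OutSign X` -/
structure SignRows : Prop where
  exc2 : ∀ (X : Type u) [Group X], Exc2 X → OutSign X
  exc4 : ∀ (X : Type u) [Group X], Exc4 X → OutSign X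
  sz : ∀ (X : Type u) [Group X], XSz X → OutSign X

section Congr

variable {X : Type u} [Group X] {Y : Type u} [Group Y]

theorem exc2_congr (e : X ≃* Y) (h : Exc2 X) : Exc2 Y := by
  rcases h with h | h | h | h | h | h | h | h | h | h | h | h | h | h
  · obtain ⟨F, i1, i2, h1, ⟨f⟩⟩ := h
    exact Or.inl ⟨F, i1, i2, h1, ⟨e.symm.trans f⟩⟩
  · obtain ⟨F, i1, i2, h1, ⟨f⟩⟩ := h
    exact Or.inr (Or.inl ⟨F, i1, i2, h1, ⟨e.symm.trans f⟩⟩)
  · obtain ⟨F, i1, i2, h1, ⟨f⟩⟩ := h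
    exact Or.inr (Or.inr (Or.inl ⟨F, i1, i2, h1, ⟨e.symm.trans f⟩⟩))
  · obtain ⟨F, i1, i2, h1, ⟨f⟩⟩ := h
    exact Or.inr (Or.inr (Or.inr (Or.inl ⟨F, i1, i2, h1, ⟨e.symm.trans f⟩⟩)))
  · obtain ⟨F, i1, i2, h1, ⟨f⟩⟩ := h
    exact Or.inr (Or.inr (Or.inr (Or.inr (Or.inl ⟨F, i1, i2, h1, ⟨e.symm.trans f⟩⟩))))
  · obtain ⟨F, i1, i2, h1, ⟨f⟩⟩ := h
    exact Or.inr (Or.inr (Or.inr (Or.inr (Or.inr (Or.inl ⟨F, i1, i2, h1, ⟨e.symm.trans f⟩⟩)))))
  · obtain ⟨f⟩ := h
    exact Or.inr (Or.inr (Or.inr (Or.inr (Or.inr (Or.inr (Or.inl ⟨e.symm.trans f⟩))))))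
  · obtain ⟨f⟩ := h
    exact Or.inr (Or.inr (Or.inr (Or.inr (Or.inr (Or.inr (Or.inr (Or.inl ⟨e.symm.trans f⟩)))))))
  · obtain ⟨f⟩ := h
    exact Or.inr (Or.inr (Or.inr (Or.inr (Or.inr (Or.inr (Or.inr (Or.inr (Or.inl ⟨e.symm.trans f⟩))))))))
  · obtain ⟨f⟩ := h
    exact Or.inr (Or.inr (Or.inr (Or.inr (Or.inr (Or.inr (Or.inr (Or.inr (Or.inr
      (Or.inl ⟨e.symm.trans f⟩)))))))))
  · obtain ⟨f⟩ := h
    exact Or.inr (Or.inr (Or.inr (Or.inr (Or.inr (Or.inr (Or.inr (Or.inr (Or.inr (Or.inr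
      (Or.inl ⟨e.symm.trans f⟩))))))))))
  · obtain ⟨f⟩ := h
    exact Or.inr (Or.inr (Or.inr (Or.inr (Or.inr (Or.inr (Or.inr (Or.inr (Or.inr (Or.inr (Or.inr
      (Or.inl ⟨e.symm.trans f⟩)))))))))))
  · obtain ⟨f⟩ := h
    exact Or.inr (Or.inr (Or.inr (Or.inr (Or.inr (Or.inr (Or.inr (Or.inr (Or.inr (Or.inr (Or.inr (Or.inr
      (Or.inl ⟨e.symm.trans f⟩))))))))))))
  · obtain ⟨f⟩ := h
    exact Or.inr (Or.inr (Or.inr (Or.inr (Or.inr (Or.inr (Or.inr (Or.inr (Or.inr (Or.inr (Or.inr (Or.inr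
      (Or.inr ⟨e.symm.trans f⟩))))))))))))

theorem exc4_congr (e : X ≃* Y) (h : Exc4 X) : Exc4 Y := by
  rcases h with h | h
  · obtain ⟨F, i1, i2, h1, ⟨f⟩⟩ := h
    exact Or.inl ⟨F, i1, i2, h1, ⟨e.symm.trans f⟩⟩
  · obtain ⟨f⟩ := h
    exact Or.inr ⟨e.symm.trans f⟩

theorem xsz_congr (e : X ≃* Y) (h : XSz X) : XSz Y := by
  obtain ⟨F, i1, i2, m, h1, h2, ⟨f⟩⟩ := h
  exact ⟨F, i1, i2, m, h1, h2, ⟨e.symm.trans f⟩⟩

theorem lieOdd_congr (e : X ≃* Y) (h : LieOdd X) : LieOdd Y := by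
  obtain ⟨p, h1, h2, h3⟩ := h
  exact ⟨p, h1, h2, Known.isLieTypeChar_congr e h3⟩

theorem lieTwo_congr (e : X ≃* Y) (h : LieTwo X) : LieTwo Y := by
  obtain ⟨h1, h2, h3⟩ := h
  refine ⟨?_, fun h => h2 (Known.isAlternating_congr e.symm h), fun h => h3 (lieOdd_congr e.symm h)⟩
  rcases h1 with h | h
  · exact Or.inl (Known.isLieTypeChar_congr e h)
  · exact Or.inr (Known.isoTits_congr e h)

end Congr

/-- `A₅ = PSL(2,5)` -/
theorem lieOdd_of_alt5 {X : Type u} [Group X] (e : X ≃* ↥(alternatingGroup (Fin 5))) : LieOdd X := by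
  obtain ⟨E, h1, h2, h3, hE⟩ := Iso5.exists_field 5 1 (by norm_num) one_ne_zero
  obtain ⟨f⟩ := Cfsg.Agent.S0253.result (F := E) (by rw [hE]; norm_num)
  exact ⟨5, by norm_num, by norm_num, Or.inl ⟨E, h1, h2, h3, 2, le_rfl, fun _ => by rw [hE]; norm_num,
    ⟨e.trans f.symm⟩⟩⟩

/-- `A₆ = PSL(2,9)` -/
theorem lieOdd_of_alt6 {X : Type u} [Group X] (e : X ≃* ↥(alternatingGroup (Fin 6))) : LieOdd X := by
  obtain ⟨E, h1, h2, h3, hE⟩ := Iso5.exists_field 3 2 (by norm_num) two_ne_zero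
  obtain ⟨f⟩ := Cfsg.Agent.S0254.result (F := E) (by rw [hE]; norm_num)
  exact ⟨3, by norm_num, by norm_num, Or.inl ⟨E, h1, h2, h3, 2, le_rfl, fun _ => by rw [hE]; norm_num,
    ⟨e.trans f.symm⟩⟩⟩

/-- a quasisimple group with a nontrivial central 2-group has a quotient with centre of order 2 -/
theorem exists_double {M : Type u} [Group M] [Finite M] (hM : IsQuasisimple M) (h2 : IsPGroup 2 ↥(center M))
    (hne : center M ≠ ⊥) : ∃ (K : Type u) (_ : Group K), QsCyc K ∧ center K ≠ ⊥ ∧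
      Nonempty ((K ⧸ center K) ≃* (M ⧸ center M)) := by
  have : Fact (Nat.Prime 2) := ⟨Nat.prime_two⟩
  have hnt : Nontrivial ↥(center M) := (nontrivial_iff_ne_bot _).2 hne
  obtain ⟨Z0, -, hidx, -, -⟩ := Cfsg.Agent.Lib.CoprimeStab.exists_normal_index_prime ↥(center M) h2
  -- the quotient
  set N : Subgroup M := Z0.map (center M).subtype with hN
  have hNZ : N ≤ center M := map_subtype_le _
  have hNn : N.Normal := by
    constructor
    intro n hn g
    have h1 := mem_center_iff.1 (hNZ hn) g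
    rw [h1, mul_inv_cancel_right]; exact hn
  have hperf : Group.IsPerfect (M ⧸ N) :=
    haveI := hM.1
    Group.IsPerfect.ofSurjective (f := QuotientGroup.mk' N) (QuotientGroup.mk'_surjective _)
  -- the centre of the quotient
  have hcen : center (M ⧸ N) = (center M).map (QuotientGroup.mk' N) := by
    apply le_antisymm
    · intro x hx
      obtain ⟨g, rfl⟩ := QuotientGroup.mk'_surjective N x
      refine ⟨g, ?_, rfl⟩
      -- `g` is central modulo `Z(M)`
      have h1 : ((g : M) : M ⧸ center M) ∈ center (M ⧸ center M) := by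
        rw [mem_center_iff]
        intro y
        obtain ⟨h, rfl⟩ := QuotientGroup.mk'_surjective (center M) y
        have h3 := mem_center_iff.1 hx (QuotientGroup.mk' N h)
        have h4 : (QuotientGroup.mk' N) (h * g) = (QuotientGroup.mk' N) (g * h) := by
          rw [map_mul, map_mul]; exact h3
        have h5 : (h * g)⁻¹ * (g * h) ∈ N := QuotientGroup.eq.1 h4
        have h6 : ((h * g : M) : M ⧸ center M) = ((g * h : M) : M ⧸ center M) := QuotientGroup.eq.2 (hNZ h5)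
        exact h6
      rw [Cfsg.Agent.Schreier.Balance.center_quotient_eq_bot hM, mem_bot, QuotientGroup.eq_one_iff] at h1
      exact h1
    · rintro _ ⟨g, hg, rfl⟩
      rw [mem_center_iff]
      intro y
      obtain ⟨h, rfl⟩ := QuotientGroup.mk'_surjective N y
      rw [← map_mul, ← map_mul, mem_center_iff.1 hg h]
  -- the isomorphism
  have e : ((M ⧸ N) ⧸ center (M ⧸ N)) ≃* (M ⧸ center M) :=
    (QuotientGroup.quotientMulEquivOfEq hcen).trans
      (QuotientGroup.quotientQuotientEquivQuotient N (center M) hNZ)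
  have hsimple : IsSimpleGroup ((M ⧸ N) ⧸ center (M ⧸ N)) := Known.isSimple_congr e.symm hM.2
  -- the centre has order 2
  have hcard : Nat.card (center (M ⧸ N)) = 2 := by
    rw [hcen]
    have h1 : Nat.card ((center M).map (QuotientGroup.mk' N)) = N.relIndex (center M) := by
      rw [← relIndex_bot_left ((center M).map (QuotientGroup.mk' N))]
      have h2 : (⊥ : Subgroup (M ⧸ N)) = N.map (QuotientGroup.mk' N) := by
        rw [QuotientGroup.map_mk'_self]
      rw [h2, relIndex_map_map, QuotientGroup.ker_mk', sup_idem, sup_eq_left.2 hNZ]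
    rw [h1, relIndex]
    have h2 : N.subgroupOf (center M) = Z0 := comap_map_eq_self_of_injective (center M).subtype_injective Z0
    rw [h2, hidx]
  refine ⟨M ⧸ N, inferInstance, ⟨inferInstance, ⟨hperf, hsimple⟩, ?_, ?_⟩, ?_, ⟨e⟩⟩
  · exact IsPGroup.of_card (n := 1) (by rw [hcard, pow_one])
  · exact isCyclic_of_prime_card hcard
  · intro h
    rw [h, card_bot] at hcard
    exact absurd hcard (by norm_num)

/-- **the signs** -/
theorem intrSign (hNI : NI.{u}) (hM : Mult.{u}) (R : SignRows.{u}) : IntrSign.{u} := by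
  intro G _ C M z hz hcomp hzM hrk hs hna hk
  have hfin := C.fin
  have hq := Soft.CompOf.quasisimple hcomp
  have hz2 := Soft.CompOf.center_isPGroup (C.bal z hz) hcomp
  have hne : center ↥M ≠ ⊥ := by
    intro h
    have h1 : (⟨z, hzM⟩ : M) ∈ center ↥M := by
      rw [mem_center_iff]
      intro x
      exact Subtype.ext (mem_centralizer_singleton_iff.1 (hcomp.1 x.2))
    rw [h, mem_bot] at h1
    have h2 : z = 1 := congrArg Subtype.val h1
    rw [h2, orderOf_one] at hz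
    exact absurd hz (by norm_num)
  by_cases ho : LieOdd (↥M ⧸ center ↥M)
  · exact absurd ho (fun h => hNI G C z M hz hcomp hzM h)
  by_cases hx2 : Exc2 (↥M ⧸ center ↥M)
  · exact R.exc2 _ hx2
  by_cases hx4 : Exc4 (↥M ⧸ center ↥M)
  · exact R.exc4 _ hx4
  by_cases hxs : XSz (↥M ⧸ center ↥M)
  · exact R.sz _ hxs
  by_cases ha : IsAlternating (↥M ⧸ center ↥M)
  · obtain ⟨n, hn, ⟨f⟩⟩ := ha
    by_cases h7 : 7 ≤ n
    · exact OutSign.of_equiv f.symm (outSign_alt h7)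
    · exfalso
      apply ho
      obtain rfl | rfl : n = 5 ∨ n = 6 := by omega
      · exact lieOdd_of_alt5 f
      · exact lieOdd_of_alt6 f
  exfalso
  obtain ⟨K, _, hK, hKne, ⟨e⟩⟩ := exists_double hq hz2 hne
  rcases Known.classify hna hk with h | h | h | h
  · exact ha h
  · exact ho h
  · exact hKne (hM.lie K hK (lieTwo_congr e.symm ⟨h, ha, ho⟩) (fun h => hx2 (exc2_congr e h))
      (fun h => hx4 (exc4_congr e h)) (fun h => hxs (xsz_congr e h)))
  · exact hKne (hM.spor K hK (Known.isSporadic_congr e.symm h) (fun h => hx2 (exc2_congr e h))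
      (fun h => hx4 (exc4_congr e h)))

/-- `CaseM.Intr` from `Iface.Intr` -/
theorem intr_of (h : Iface.Intr.{u}) : Intr.{u} := fun G _ C M z I => h G C M z I.hz I.std I.zM I.cent

/-- **case (M)**, final form -/
theorem noComp_of (hSch : Cfsg.Agent.Schreier.Cases.SchFor.{u} @IsKnownSimple')
    (hGW : SylowSp4.Hyps.GW.{u}) (hI : Iface.Intr.{u}) (hNI : NI.{u}) (hM : Mult.{u}) (R : SignRows.{u}) :
    D8.MainE.NoComp.{u} (fun _ _ _ P R => SheetM P R) :=
  noComp hSch hGW (intr_of hI) (intrSign hNI hM R)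

end Cfsg.Agent.OddHalf.CaseM
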