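import Cfsg.Agent.OddHalf.CaseM.GlueX
import Cfsg.Agent.OddHalf.CaseM.Sign
import Cfsg.Agent.FixBN.LOSplit

/-!
# Case (M) of D8: the end, without `NI`, for sheets without the `y`-trick

The components `M` with `M / Z(M)` of Lie type in odd characteristic are excluded by THEOREM LO (`FixBN.LOAut`):
`R` is a normal 2-subgroup of `C_M(t)`, so the perfect group `P ≤ C_M(t)` centralises `R`.

`noCompX_of`: `C_G(z)` has no component (`SheetX`); `noComp_of'`: the same for `SheetE`.
-/

set_option autoImplicit false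

namespace Cfsg.Agent.OddHalf.CaseM

open Subgroup Cfsg
open Cfsg.Agent.OddHalf.Iface Cfsg.Agent.OddHalf.D9.Cut Cfsg.Agent.OddHalf.Table
open Cfsg.Agent.OddHalf.D8.Sheet Cfsg.Agent.OddHalf.D8.GlueE Cfsg.Agent.OddHalf.D8.Front
open Cfsg.Agent.OddHalf.D8.JTwo.Sheet
open Cfsg.Agent.Cit (cj mem_cj conj_mem_cj conj_mem_cj_iff)
open Cfsg.Agent.SignalizersComponents.Components
open Cfsg.Agent.Schreier.Basic

open scoped commutatorElement

universe u

/-- **(LO)** excludes `P ≤ M` -/
theorem Hyp.false_of_lo {X : Type*} [Group X] [Finite X] {z t : X} {R P : Subgroup X} (h : Hyp z t R P)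
    {M : Subgroup X} (hM : IsComponent M) (hPM : P ≤ M)
    (hLO : Cfsg.Agent.FixBN.LOAut (↥M ⧸ center ↥M)) : False := by
  have hn : ∀ x ∈ M, t * x * t⁻¹ ∈ M := fun x hx => by
    have := conj_mem_cj (g := t) hx
    rwa [h.cj_t hM] at this
  have hinv : ∀ x : X, t * (t * x * t⁻¹) * t⁻¹ = x := by
    intro x
    calc t * (t * x * t⁻¹) * t⁻¹ = (t * t) * x * (t * t)⁻¹ := by group
      _ = x := by rw [h.tt]; group
  let σ : ↥M ≃* ↥M :=
    { toFun := fun x => ⟨t * x * t⁻¹, hn x x.2⟩
      invFun := fun x => ⟨t * x * t⁻¹, hn x x.2⟩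
      left_inv := fun x => Subtype.ext (hinv x)
      right_inv := fun x => Subtype.ext (hinv x)
      map_mul' := fun x y => Subtype.ext (by
        change t * ((x : X) * y) * t⁻¹ = (t * x * t⁻¹) * (t * y * t⁻¹)
        group) }
  have hσσ : ∀ x : ↥M, σ (σ x) = x := fun x => Subtype.ext (hinv x)
  have hfix : ∀ x : ↥M, x ∈ Cfsg.Agent.FixBN.Reduce.fixSub σ ↔ (x : X) * t = t * x := by
    intro x
    constructor
    · intro hx
      have h1 : t * (x : X) * t⁻¹ = x := congrArg Subtype.val (show σ x = x from hx)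
      rw [mul_inv_eq_iff_eq_mul] at h1
      exact h1.symm
    · intro hx
      change σ x = x
      apply Subtype.ext
      change t * (x : X) * t⁻¹ = x
      rw [← hx]; group
  have hRM : R ≤ M := h.RP.trans hPM
  have hinj : Function.Injective (Subgroup.map M.subtype) := map_injective M.subtype_injective
  have key := Cfsg.Agent.FixBN.LOAut.of_central (N := center ↥M) le_rfl hLO σ
    (fun n hn' => by
      rw [mem_center_iff]
      intro g
      have h1 := mem_center_iff.1 hn' (σ g)
      have h2 := congrArg σ h1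
      rw [map_mul, map_mul, hσσ] at h2
      exact h2)
    (fun g => by rw [hσσ, inv_mul_cancel]; exact one_mem _)
    (X := R.subgroupOf M) (P := P.subgroupOf M)
    (fun x hx => (hfix x).2 (h.Rt x (mem_subgroupOf.1 hx)))
    (fun g hg x hx => mem_subgroupOf.2 (h.Rn g ((hfix g).1 hg) x (mem_subgroupOf.1 hx)))
    (h.R2.comap_of_injective M.subtype M.subtype_injective)
    (fun x hx => (hfix x).2 (h.Pt x (mem_subgroupOf.1 hx)))
    (by
      apply hinj
      rw [map_commutator, subgroupOf_map_subtype, inf_of_le_left hPM, h.Pperf])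
  apply h.Rna
  intro a ha b hb
  exact congrArg Subtype.val (key ⟨a, hRM ha⟩ (mem_subgroupOf.2 (h.RP ha)) ⟨b, hRM hb⟩ (mem_subgroupOf.2 hb))

/-- signs of outer automorphisms of intrinsic components not of Lie type in odd characteristic -/
def IntrSign' : Prop :=
  ∀ (G : Type u) [Group G], Ctx G → ∀ (M : Subgroup G) (z : G), orderOf z = 2 → CompOf z M → z ∈ M →
    ¬ PRankLE 2 1 ↥M → IsSimpleGroup (↥M ⧸ center ↥M) → ¬ IsMulCommutative (↥M ⧸ center ↥M) →
    IsKnownSimple' (↥M ⧸ center ↥M) → ¬ LieOdd (↥M ⧸ center ↥M) → Table.OutSign (↥M ⧸ center ↥M)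

/-- **the signs** -/
theorem intrSign' (hM : Mult.{u}) (R : SignRows.{u}) : IntrSign'.{u} := by
  intro G _ C M z hz hcomp hzM hrk hs hna hk ho
  have hfin := C.fin
  have hq := Soft.CompOf.quasisimple hcomp
  have hz2 := Soft.CompOf.center_isPGroup (C.bal z hz) hcomp
  have hne : center ↥M ≠ ⊥ := by
    intro h
    have h1 : (⟨z, hzM⟩ : M) ∈ center ↥M := by
      rw [mem_center_iff]
      intro x
      exact Subtype.ext (mem_centralizer_singleton_iff.1 (hcomp.1 x.2))
    rw [h, mem_bot] at h1
    have h2 : z = 1 := congrArg Subtype.val h1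
    rw [h2, orderOf_one] at hz
    exact absurd hz (by norm_num)
  by_cases hx2 : Exc2 (↥M ⧸ center ↥M)
  · exact R.exc2 _ hx2
  by_cases hx4 : Exc4 (↥M ⧸ center ↥M)
  · exact R.exc4 _ hx4
  by_cases hxs : XSz (↥M ⧸ center ↥M)
  · exact R.sz _ hxs
  by_cases ha : IsAlternating (↥M ⧸ center ↥M)
  · obtain ⟨n, hn, ⟨f⟩⟩ := ha
    by_cases h7 : 7 ≤ n
    · exact OutSign.of_equiv f.symm (outSign_alt h7)
    · exfalso
      apply ho
      obtain rfl | rfl : n = 5 ∨ n = 6 := by omega
      · exact lieOdd_of_alt5 f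
      · exact lieOdd_of_alt6 f
  exfalso
  obtain ⟨K, _, hK, hKne, ⟨e⟩⟩ := exists_double hq hz2 hne
  rcases Known.classify hna hk with h | h | h | h
  · exact ha h
  · exact ho h
  · exact hKne (hM.lie K hK (lieTwo_congr e.symm ⟨h, ha, ho⟩) (fun h => hx2 (exc2_congr e h))
      (fun h => hx4 (exc4_congr e h)) (fun h => hxs (xsz_congr e h)))
  · exact hKne (hM.spor K hK (Known.isSporadic_congr e.symm h) (fun h => hx2 (exc2_congr e h))
      (fun h => hx4 (exc4_congr e h)))

/-- (LO) for the simple groups of Lie type in odd characteristic -/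
def LOAll : Prop :=
  ∀ (X : Type u) [Group X], Finite X → IsSimpleGroup X → LieOdd X → Cfsg.Agent.FixBN.LOAut X

/-- Case (M) for the sheets without the `y`-trick: `C_G(z)` has no component, if the sheet satisfies `Y`. -/
def NoCompX (Y : (K : Type u) → [Group K] → K → Subgroup K → Subgroup K → Prop) : Prop :=
  ∀ (G : Type u) [Group G], Iface.Ctx G → ∀ (K : Subgroup G) (t q : G) (z : K) (P R : Subgroup K),
    Out K t q z P → SheetX z P R → Y ↥K z P R →
    ∀ M : Subgroup ↥(centralizer ({(z : G)} : Set G)), ¬ IsComponent M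

section

variable {G : Type u} [Group G]

/-- `P ≤ M` for every component `M` of `C_G(z)` -/
theorem main_compX (C : Ctx G) (hSch : Cfsg.Agent.Schreier.Cases.SchFor.{u} @IsKnownSimple')
    (hGW : SylowSp4.Hyps.GW.{u}) {K : Subgroup G} {t q : G} {z : K} {P R : Subgroup K}
    (o : Out K t q z P) (sh : SheetX z P R) (m : SheetM P R)
    {M : Subgroup ↥(centralizer ({(z : G)} : Set G))} (hM : IsComponent M) :
    toX z P ≤ M ∧
      (((⟨t, mem_centralizer_singleton_iff.2 o.emb.comm⟩ : ↥(centralizer ({(z : G)} : Set G))) ∈ M) ∨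
        (⟨t, mem_centralizer_singleton_iff.2 o.emb.comm⟩ : ↥(centralizer ({(z : G)} : Set G))) ∉
          M ⊔ centralizer (M : Set ↥(centralizer ({(z : G)} : Set G)))) := by
  have hfin := C.fin
  have h := X.hyp o sh m
  have hz := D8.MainE.orderOf_z o.emb
  have hcomp := compOf_map hM
  have hSchM : Sch (↥M ⧸ center ↥M) := by
    have e : ↥(M.map (centralizer ({(z : G)} : Set G)).subtype) ≃* ↥M :=
      (M.equivMapOfInjective _ (centralizer ({(z : G)} : Set G)).subtype_injective).symm
    exact Cfsg.Agent.Schreier.Balance.sch_center_quotient e (sch_of_comp C hSch hz hcomp)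
  have hev : 2 ∣ Nat.card M := by
    have h1 := even_card C hz hcomp
    rwa [Nat.card_congr (M.equivMapOfInjective _
      (centralizer ({(z : G)} : Set G)).subtype_injective).toEquiv.symm] at h1
  rcases h.main hM (fun hn => le_sup_centralizer hM.2.1 hSchM h.Pperf hn) hev with ⟨hzM, huniq⟩ | ⟨hP, h2⟩
  · exfalso
    refine rank_two C hGW hz hcomp ⟨_, hzM, rfl⟩ ?_
    intro E _ hE
    -- all the elements of `E` are in `{1, z}`
    have hEz : ∀ x ∈ E, x = 1 ∨ ((x : ↥(M.map (centralizer ({(z : G)} : Set G)).subtype)) : G) = z := by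
      intro x hx
      obtain ⟨y, hy, hyx⟩ := x.2
      have h1 : ((x : ↥(M.map (centralizer ({(z : G)} : Set G)).subtype)) : G) *
          ((x : ↥(M.map (centralizer ({(z : G)} : Set G)).subtype)) : G) = 1 := by
        have := congrArg Subtype.val (hE x hx)
        rw [pow_two] at this
        exact this
      rcases huniq y hy (by
        apply Subtype.ext
        change (y : G) * y = 1
        have hyx' : (y : G) = ((x : ↥(M.map (centralizer ({(z : G)} : Set G)).subtype)) : G) := hyx
        rw [hyx']; exact h1) with e | e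
      · left
        apply Subtype.ext
        rw [← hyx, e]; rfl
      · right
        rw [← hyx, e]; rfl
    have hle : E ≤ zpowers (⟨z, ⟨_, hzM, rfl⟩⟩ : ↥(M.map (centralizer ({(z : G)} : Set G)).subtype)) := by
      intro x hx
      rcases hEz x hx with e | e
      · rw [e]; exact one_mem _
      · have : x = ⟨z, ⟨_, hzM, rfl⟩⟩ := Subtype.ext e
        rw [this]; exact mem_zpowers _
    have hcard := Subgroup.card_le_of_le hle
    rw [Nat.card_zpowers] at hcard
    have ho : orderOf (⟨z, ⟨_, hzM, rfl⟩⟩ : ↥(M.map (centralizer ({(z : G)} : Set G)).subtype)) = 2 := by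
      rw [← Subgroup.orderOf_coe]; exact hz
    rw [ho] at hcard
    exact hcard
  · refine ⟨hP, ?_⟩
    rcases h2 with h3 | h3
    · exact Or.inl h3.1
    · exact Or.inr h3

/-- **case (M)** for the sheets without the `y`-trick -/
theorem noCompX (hSch : Cfsg.Agent.Schreier.Cases.SchFor.{u} @IsKnownSimple')
    (hGW : SylowSp4.Hyps.GW.{u}) (hI : Intr.{u}) (hLO : LOAll.{u}) (hS : IntrSign'.{u}) :
    NoCompX.{u} (fun _ _ _ P R => SheetM P R) := by
  intro G _ C K t q z P R o sh m M hM
  have hfin := C.fin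
  have hsimp := C.simple
  have h := X.hyp o sh m
  have hz := D8.MainE.orderOf_z o.emb
  have hcomp := compOf_map hM
  have htH : t ∈ centralizer ({(z : G)} : Set G) := mem_centralizer_singleton_iff.2 o.emb.comm
  obtain ⟨hP, hcase⟩ := main_compX C hSch hGW o sh m hM
  have hzM : (z : G) ∈ M.map (centralizer ({(z : G)} : Set G)).subtype :=
    ⟨⟨z, mem_centralizer_singleton_iff.2 rfl⟩, hP ⟨z, sh.zP, rfl⟩, rfl⟩
  have hrk := rank_two C hGW hz hcomp hzM
  have hq := Soft.CompOf.quasisimple hcomp
  have hnt := Soft.CompOf.ne_top C.na hz hcomp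
  have hkn := Known.known_quotient C.kproper _ hnt _ hq.2 (Soft.quo_na hq)
  -- `M` is not of Lie type in odd characteristic
  have hLie : ¬ LieOdd (↥(M.map (centralizer ({(z : G)} : Set G)).subtype) ⧸
      center ↥(M.map (centralizer ({(z : G)} : Set G)).subtype)) := by
    intro ho
    have e : (↥M ⧸ center ↥M) ≃* (↥(M.map (centralizer ({(z : G)} : Set G)).subtype) ⧸
        center ↥(M.map (centralizer ({(z : G)} : Set G)).subtype)) := by
      have e0 : ↥M ≃* ↥(M.map (centralizer ({(z : G)} : Set G)).subtype) :=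
        M.equivMapOfInjective _ (centralizer ({(z : G)} : Set G)).subtype_injective
      exact QuotientGroup.congr _ _ e0 (by
        ext x
        rw [mem_map, mem_center_iff]
        constructor
        · rintro ⟨y, hy, rfl⟩ g
          have h1 := mem_center_iff.1 hy (e0.symm g)
          have h2 := congrArg e0 h1
          rw [map_mul, map_mul, e0.apply_symm_apply] at h2
          exact h2
        · intro hx
          refine ⟨e0.symm x, ?_, e0.apply_symm_apply x⟩
          rw [mem_center_iff]
          intro g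
          apply e0.injective
          rw [map_mul, map_mul, e0.apply_symm_apply]
          exact hx (e0 g))
    exact h.false_of_lo hM hP (Cfsg.Agent.FixBN.LOAut.congr e (hLO _ inferInstance hq.2 ho))
  -- `t` does not centralise `M`
  have hnc : ∃ x ∈ M.map (centralizer ({(z : G)} : Set G)).subtype, t * x ≠ x * t := by
    by_contra hcon
    push Not at hcon
    refine h.not_quasisimple hM.2 (h.RP.trans hP) ?_
    intro x hx
    exact Subtype.ext (hcon x ⟨x, hx, rfl⟩).symm
  rcases hcase with htM | htM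
  · -- `t ∈ M`
    obtain ⟨-, hcent, hnorm, hstd⟩ := Table.lemmaS (D₀ := (P.map K.subtype : Subgroup G)) hz o.emb.st.tt
      hcomp.1 hcomp.2 hzM (by
        intro d hd
        have hdH : d ∈ centralizer ({(z : G)} : Set G) := map_le_cent sh.cen hd
        exact ⟨⟨d, hdH⟩, hP hd, rfl⟩) (by
        intro y hyz hyt hyP
        have hyH : y ∈ centralizer ({(z : G)} : Set G) := mem_centralizer_singleton_iff.2 hyz
        rcases h.cR ⟨y, hyH⟩ (Subtype.ext hyt) (by
          intro r hr
          exact Subtype.ext (hyP r (h.RP hr))) with e | e | e | e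
        · exact Or.inl (congrArg Subtype.val e)
        · exact Or.inr (Or.inr (Or.inl (congrArg Subtype.val e)))
        · exact Or.inr (Or.inl (congrArg Subtype.val e))
        · exact Or.inr (Or.inr (Or.inr (congrArg Subtype.val e))))
      ⟨t, ⟨_, htM, rfl⟩, fun x _ => rfl⟩ hnc
    exact hI G C _ z
      { hz := hz
        comp := hcomp
        zM := hzM
        cent := hcent
        norm := hnorm
        std := hstd
        ne_top := hnt
        z2 := Soft.CompOf.center_isPGroup (C.bal _ hz) hcomp
        rk2 := hrk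
        simple := hq.2
        quo_na := Soft.quo_na hq
        known := hkn }
  · -- `t ∉ M C(M)`: `M` is normal
    have hcj : ∀ g : ↥(centralizer ({(z : G)} : Set G)), cj g M = M := by
      intro g
      by_contra hne
      have hM2 : IsComponent (cj g M) := Cfsg.Agent.Cit.Comp.isComponent_cj hM g
      obtain ⟨hP2, -⟩ := main_compX C hSch hGW o sh m hM2
      apply h.Rna
      intro a ha b hb
      exact Cfsg.Agent.Cit.Comp.comm_of_ne hM hM2 (fun e => hne e.symm) (hP (h.RP ha)) (hP2 (h.RP hb))
    have hn : ∀ g ∈ centralizer ({(z : G)} : Set G), ∀ x ∈ M.map (centralizer ({(z : G)} : Set G)).subtype,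
        g * x * g⁻¹ ∈ M.map (centralizer ({(z : G)} : Set G)).subtype := by
      rintro g hg _ ⟨x, hx, rfl⟩
      refine ⟨⟨g, hg⟩ * x * ⟨g, hg⟩⁻¹, ?_, rfl⟩
      have := conj_mem_cj (g := (⟨g, hg⟩ : ↥(centralizer ({(z : G)} : Set G)))) hx
      rwa [hcj] at this
    have hperf : ⁅M.map (centralizer ({(z : G)} : Set G)).subtype,
        M.map (centralizer ({(z : G)} : Set G)).subtype⁆ = M.map (centralizer ({(z : G)} : Set G)).subtype := by
      rw [← map_commutator, isPerfect_iff.1 hM.2.1]
    obtain ⟨lam, hlam, -, -⟩ := Table.exists_lam_sub hcomp.1 hn hperf (MulEquiv.refl _)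
      (hS G C _ z hz hcomp hzM hrk hq.2 (Soft.quo_na hq) hkn hLie) htH (by
        intro x _
        rw [o.emb.st.tt, one_mul, mul_one]) (by
        rintro _ ⟨x, hx, rfl⟩ c hc hcx e
        apply htM
        have e1 : (⟨t, htH⟩ : ↥(centralizer ({(z : G)} : Set G))) = x * ⟨c, hc⟩ := Subtype.ext e
        rw [e1]
        refine mul_mem (mem_sup_left hx) (mem_sup_right ?_)
        rw [mem_centralizer_iff]
        intro y hy
        exact Subtype.ext (hcx y ⟨y, hy, rfl⟩).symm)
    have h1 : commutator (centralizer ({(z : G)} : Set G)) ≤ lam.ker := Abelianization.commutator_subset_ker lam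
    have h2 : lam ⟨t, htH⟩ = 1 := h1 o.com
    rw [h2] at hlam
    exact absurd hlam (by decide)

end

/-- **case (M)** for the sheets without the `y`-trick, final form -/
theorem noCompX_of (hSch : Cfsg.Agent.Schreier.Cases.SchFor.{u} @IsKnownSimple')
    (hGW : SylowSp4.Hyps.GW.{u}) (hI : Iface.Intr.{u}) (hLO : LOAll.{u}) (hM : Mult.{u}) (R : SignRows.{u}) :
    NoCompX.{u} (fun _ _ _ P R => SheetM P R) :=
  noCompX hSch hGW (intr_of hI) hLO (intrSign' hM R)

/-- from `SheetX` to `SheetE` -/
theorem NoCompX.noComp {Y : (K : Type u) → [Group K] → K → Subgroup K → Subgroup K → Prop} (h : NoCompX.{u} Y) :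
    D8.MainE.NoComp.{u} Y :=
  fun G _ C K t q z P R o sh hY M => h G C K t q z P R o (of_sheetE sh) hY M

/-- **case (M)**, final form without `NI` -/
theorem noComp_of' (hSch : Cfsg.Agent.Schreier.Cases.SchFor.{u} @IsKnownSimple')
    (hGW : SylowSp4.Hyps.GW.{u}) (hI : Iface.Intr.{u}) (hLO : LOAll.{u}) (hM : Mult.{u}) (R : SignRows.{u}) :
    D8.MainE.NoComp.{u} (fun _ _ _ P R => SheetM P R) :=
  (noCompX_of hSch hGW hI hLO hM R).noComp

end Cfsg.Agent.OddHalf.CaseM
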