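import Cfsg.Agent.FixBN.LOAll
import Cfsg.Agent.OddHalf.CaseM.EndX
/-!
`CaseM.LOAll` is a theorem (THEOREM LO+ of `FixBN/LO*.lean`), and its form for a quasisimple group with an
automorphism of order `2`.
-/

set_option autoImplicit false

universe u

open Subgroup

namespace Cfsg.Agent.OddHalf.CaseM

open Cfsg.Agent.OddHalf.Iface

/-- **(LO) for all the simple groups of Lie type of odd characteristic.** -/
theorem loAll : LOAll.{u} := by
  intro X _ _ hX hL
  obtain ⟨p, -, hp2, h⟩ := hL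
  exact Cfsg.Agent.FixBN.loAut_of_isLieTypeChar hp2 h

/-- (LO) for `M / Z(M)` simple of Lie type of odd characteristic and `σ : Aut M`, `σ² = 1`: a perfect subgroup of
`C_M(σ)` centralises every normal `2`-subgroup of `C_M(σ)`. -/
theorem lo_quasi {M : Type u} [Group M] [Finite M] [IsSimpleGroup (M ⧸ center M)]
    (hL : LieOdd (M ⧸ center M)) (σ : M ≃* M) (hσ : ∀ g, σ (σ g) = g) {X P : Subgroup M}
    (hX : ∀ x ∈ X, σ x = x) (hn : ∀ g, σ g = g → ∀ x ∈ X, g * x * g⁻¹ ∈ X) (h2 : IsPGroup 2 X)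
    (hP : ∀ x ∈ P, σ x = x) (hPP : ⁅P, P⁆ = P) : ∀ g ∈ P, ∀ x ∈ X, g * x = x * g := by
  have h := loAll (M ⧸ center M) inferInstance inferInstance hL
  refine Cfsg.Agent.FixBN.LOAut.of_central le_rfl h σ (fun n hn => ?_) (fun g => ?_) (fun x hx => ?_)
    (fun g hg x hx => hn g ?_ x hx) h2 (fun x hx => ?_) hPP
  · exact (Subgroup.map_le_iff_le_comap.1 (Subgroup.characteristic_iff_map_le.1 inferInstance σ)) hn
  · rw [hσ, inv_mul_cancel]
    exact one_mem _
  · exact hX x hx
  · exact hg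
  · exact hP x hx

end Cfsg.Agent.OddHalf.CaseM
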