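import Cfsg.Agent.OddHalf.CaseM.Sign
import Cfsg.Agent.OddHalf.NI.Ex.Cut
import Cfsg.Agent.OddHalf.NI.Rows
import Cfsg.Agent.OddHalf.NI3.Final
import Cfsg.Agent.OddHalf.U2.MultOf
import Cfsg.Agent.KFacts.MulOdd.ThreeOdd

/-!
# `CaseM.NI`: no intrinsic component of Lie type in odd characteristic

`ni_of`: from node NI (`NI.NoBig`, `NI3.NoThree`), the facts `NI3.F13c`, the theorem on `2.U₄(3)` (`NoU43`), S0483, S1738
and `D5cover`. `rowU43_of`: `NI3.Final.RowU43` from `NoU43`.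
-/

set_option autoImplicit false
set_option linter.style.haveILetI false

namespace Cfsg.Agent.OddHalf.CaseM

open Subgroup Cfsg Cfsg.Agent.OddHalf.Iface Cfsg.Agent.OddHalf.LieOddFam Cfsg.Agent.KFacts.MulDef

universe u

/-- **THEOREM NIB** (`2.U₄(3)`): no component of `C(z)` with center `⟨z⟩` and central quotient `U₄(3)`. -/
def NoU43 : Prop :=
  ∀ (G : Type u) [Group G], Ctx G → ∀ (z : G) (M : Subgroup G), orderOf z = 2 → CompOf z M → z ∈ M →
    Nat.card ↥(center ↥M) = 2 → NI3.XU43 (↥M ⧸ center ↥M) → False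

/-- A group of Lie type of rank at least 2 over `F_3` has odd multiplier or is on the list `Cov3`. -/
theorem cov3_or_noDouble {X : Type u} [Group X] (h : Rk X 3) : NI3.Cov3 X ∨ NoDouble X := by
  rcases h with h | h | h | h | h | h | h | h | h | h | h | h | h
  · obtain ⟨F, _, _, n, h1, h2, f⟩ := h
    by_cases h3 : n = 3
    · subst h3
      obtain ⟨e⟩ := f
      exact Or.inr ((KFacts.MulOdd.TypeA.noDouble_L33 (by rw [Nat.card_eq_fintype_card, h1])).congr e.symm)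
    · exact Or.inl (Or.inl ⟨F, _, _, n, h1, by omega, f⟩)
  · exact Or.inl (Or.inr (Or.inr (Or.inl h)))
  · obtain ⟨F, _, _, n, h1, h2, f⟩ := h
    by_cases h3 : n = 3
    · subst h3
      obtain ⟨e⟩ := f
      exact Or.inr ((KFacts.MulOdd.U3.noDouble_PSU (q := 3) h1 ⟨1, rfl⟩).congr e.symm)
    · exact Or.inl (Or.inr (Or.inl ⟨F, _, _, n, by simpa using h1, by omega, f⟩))
  · exact Or.inl (Or.inr (Or.inr (Or.inr (Or.inl h))))
  · exact Or.inl (Or.inr (Or.inr (Or.inr (Or.inr (Or.inl h)))))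
  · exact Or.inl (Or.inr (Or.inr (Or.inr (Or.inr (Or.inr (Or.inl h))))))
  · obtain ⟨F, _, _, hF, ⟨e⟩⟩ := h
    haveI : CharP F 3 := KFacts.MulOdd.ThreeOdd.charP_three (n := 1) (by rw [hF]; norm_num)
    exact Or.inr ((KFacts.MulOdd.Main.noDouble (KFacts.MulOdd.InstChev.inst_G2 F 3 (by norm_num))).congr e.symm)
  · obtain ⟨F, _, _, hF, ⟨e⟩⟩ := h
    haveI : CharP F 3 := KFacts.MulOdd.ThreeOdd.charP_three (n := 1) (by rw [hF]; norm_num)
    exact Or.inr ((KFacts.MulOdd.Main.noDouble (KFacts.MulOdd.InstChev.inst_F4 F 3 (by norm_num))).congr e.symm)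
  · obtain ⟨F, _, _, hF, ⟨e⟩⟩ := h
    haveI : CharP F 3 := KFacts.MulOdd.ThreeOdd.charP_three (n := 1) (by rw [hF]; norm_num)
    exact Or.inr ((KFacts.MulOdd.Main.noDouble (KFacts.MulOdd.InstChev.inst_E6 F 3 (by norm_num)
      (by rw [Nat.card_eq_fintype_card, hF]; norm_num))).congr e.symm)
  · exact Or.inl (Or.inr (Or.inr (Or.inr (Or.inr (Or.inr (Or.inr h))))))
  · obtain ⟨F, _, _, hF, ⟨e⟩⟩ := h
    haveI : CharP F 3 := KFacts.MulOdd.ThreeOdd.charP_three (n := 1) (by rw [hF]; norm_num)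
    exact Or.inr ((KFacts.MulOdd.Main.noDouble (KFacts.MulOdd.InstChev.inst_E8 F 3 (by norm_num))).congr e.symm)
  · obtain ⟨F, _, _, hF, ⟨e⟩⟩ := h
    haveI : CharP F 3 := KFacts.MulOdd.ThreeOdd.charP_three (n := 2) hF
    exact Or.inr ((KFacts.MulOdd.Main.noDouble (KFacts.MulOdd.InstTw.inst_E6 (q := 3) Nat.prime_three.isPrimePow 3
      (by norm_num) hF (by norm_num))).congr e.symm)
  · obtain ⟨F, _, _, hF, ⟨e⟩⟩ := h
    haveI : CharP F 3 := KFacts.MulOdd.ThreeOdd.charP_three (n := 3) hF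
    exact Or.inr ((KFacts.MulOdd.Main.noDouble (KFacts.MulOdd.InstTw.inst_D4 (q := 3) Nat.prime_three.isPrimePow 3
      (by norm_num) hF)).congr e.symm)

/-- **`CaseM.NI`.** -/
theorem ni_of (hGW : RankOne.GW.{u}) (P : Stmts.P1738.{u}) (hD5 : D5cover.{u}) (hb : NI.NoBig.{u})
    (h3 : NI3.NoThree.{u}) (hF : NI3.F13c.{u}) (hU : NoU43.{u}) : NI.{u} := by
  intro G _ C z M hz hc hzM hodd
  have := C.fin
  have hq := Soft.CompOf.quasisimple hc
  have hz2 := Soft.CompOf.center_isPGroup (C.bal z hz) hc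
  have hzne : center ↥M ≠ ⊥ := by
    intro h
    have h1 : (⟨z, hzM⟩ : ↥M) ∈ center ↥M := by
      rw [mem_center_iff]
      intro g
      exact Subtype.ext (mem_centralizer_singleton_iff.mp (hc.1 g.2))
    rw [h, mem_bot] at h1
    have h2 : z = 1 := congrArg Subtype.val h1
    rw [h2, orderOf_one] at hz
    omega
  have hrk : ¬ PRankLE 2 1 ↥M := fun h => NI.Ex.rankOne_false hGW C hz hc hzM h
  by_cases halt : IsAlternating (↥M ⧸ center ↥M)
  · obtain ⟨n, hn, f⟩ := halt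
    obtain ⟨h8, hcov⟩ := hD5 ↥M inferInstance hq hz2 hzne hrk n hn f
    exact NI.Ex.altCover_comp P C hz hc hzM n h8 hcov
  have hQ : U2.Cut.QsTwo ↥M := ⟨inferInstance, hq, hz2, hzne⟩
  rcases lieOdd_cases hodd halt with h | h | h | ⟨q, hOq, h⟩
  · exact hrk (U2.MultOf.mult.l2 ↥M hQ (Or.inl h))
  · exact hrk (U2.MultOf.mult.l2 ↥M hQ (Or.inr h))
  · exact U2.MultOf.mult.ree ↥M hQ h
  · by_cases hq3 : q = 3
    · subst hq3
      rcases cov3_or_noDouble h with hcov | hnd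
      · by_cases hu : Nat.card ↥(center ↥M) = 2 ∧ NI3.XU43 (↥M ⧸ center ↥M)
        · exact hU G C z M hz hc hzM hu.1 hu.2
        · exact h3 G C z M hz hc (hF ↥M hq hz2 hzne hcov hu)
      · exact KFacts.MulOdd.Rows.not_qsTwo hnd hQ
    · exact NI.Rows.comp_false hb C hz hc hOq (hOq.ne_four hq3) h

/-- The row `2.U₄(3)` of U2. -/
theorem rowU43_of (hU : NoU43.{u}) : NI3.Final.RowU43.{u} := by
  intro G _ C K S h2 hX
  have := C.fin
  haveI : Fact (Nat.Prime 2) := ⟨Nat.prime_two⟩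
  obtain ⟨z, hz⟩ := exists_prime_orderOf_dvd_card' (G := ↥(center ↥K)) 2 (by rw [h2])
  have hz' : orderOf ((z : ↥K) : G) = 2 := by rw [Subgroup.orderOf_coe, Subgroup.orderOf_coe, hz]
  have hcen : ((z : ↥K) : G) ∈ centralizer (K : Set G) := by
    rw [mem_centralizer_iff]
    intro k hk
    exact congrArg Subtype.val (mem_center_iff.mp z.2 ⟨k, hk⟩)
  exact hU G C _ K hz' (S.term _ hz' hcen) (z : ↥K).2 h2 hX

end Cfsg.Agent.OddHalf.CaseM
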