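import Cfsg.Agent.OddHalf.CaseM.RankOne

/-!
# Case (M) of D8: components of `C_G(z)`

`Hyp z t R P` describes the group `X = C_G(z)`, `z` a central involution, `t` an involution with
`C_X(t)^∞ = P`, `R ≤ P` a normal 2-subgroup of `C_X(t)` with centralizer `⟨t, z⟩` in `C_X(t)`.

`main`: let `M` be a component of `X` of even order. Either `z` is the only involution of `M`, or `P ≤ M`; in
the second case either `t ∈ M` and `C_X(M) = ⟨z⟩`, or `t ∉ M C_X(M)`.
-/

set_option autoImplicit false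
set_option linter.unusedSectionVars false

namespace Cfsg.Agent.OddHalf.CaseM

open Subgroup Cfsg
open Cfsg.Agent.SignalizersComponents.Components
open Cfsg.Agent.Cit (cj mem_cj conj_mem_cj conj_mem_cj_iff)

/-- the hypotheses on `X = C_G(z)` and the involution `t` -/
structure Hyp {X : Type*} [Group X] (z t : X) (R P : Subgroup X) : Prop where
  zc : ∀ x, x * z = z * x
  zz : z * z = 1
  z1 : z ≠ 1
  tt : t * t = 1
  t1 : t ≠ 1
  tz : t ≠ z
  RP : R ≤ P
  Pt : ∀ x ∈ P, x * t = t * x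
  Pperf : ⁅P, P⁆ = P
  Pn : ∀ x, x * t = t * x → ∀ p ∈ P, x * p * x⁻¹ ∈ P
  Rn : ∀ x, x * t = t * x → ∀ r ∈ R, x * r * x⁻¹ ∈ R
  R2 : IsPGroup 2 R
  zR : z ∈ ⁅R, R⁆
  cR : ∀ x, x * t = t * x → (∀ r ∈ R, x * r = r * x) → x = 1 ∨ x = z ∨ x = t ∨ x = t * z
  /-- `P` contains every perfect subgroup of `C(t)` -/
  res : ∀ S : Subgroup X, S ≤ centralizer ({t} : Set X) → ⁅S, S⁆ = S → S ≤ P
  /-- nontrivial perfect subnormal subgroups of `C(t)` contain `R` -/
  big : ∀ S : Subgroup X, S ≤ centralizer ({t} : Set X) →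
    (S.subgroupOf (centralizer ({t} : Set X))).IsSubnormal → ⁅S, S⁆ = S → S ≠ ⊥ → R ≤ S
  /-- subnormal subgroups of `C(t)` not in `⟨t, z⟩` meet `⟨t⟩R` outside of `⟨t, z⟩` -/
  rad : ∀ S : Subgroup X, S ≤ centralizer ({t} : Set X) →
    (S.subgroupOf (centralizer ({t} : Set X))).IsSubnormal →
    (∀ s ∈ S, s = 1 ∨ s = z ∨ s = t ∨ s = t * z) ∨
      ∃ s ∈ S, ∃ r ∈ R, r ≠ 1 ∧ r ≠ z ∧ (s = r ∨ s = t * r)
  /-- primitivity of `P` on `R` -/
  prim : ∀ U : Subgroup X, z ∈ U → U ≤ R →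
    (∀ p ∈ P, cj p U = U ∨ ∀ x ∈ U, ∀ y ∈ cj p U, x * y = y * x) → (∀ u ∈ U, u = 1 ∨ u = z) ∨ U = R

namespace Hyp

variable {X : Type*} [Group X] {z t : X} {R P : Subgroup X}

theorem Rna (h : Hyp z t R P) : ¬ ∀ a ∈ R, ∀ b ∈ R, a * b = b * a := by
  intro hab
  have h1 : ⁅R, R⁆ = ⊥ := by
    rw [commutator_eq_bot_iff_le_centralizer]
    intro a ha
    rw [mem_centralizer_iff]
    intro b hb
    exact hab b hb a ha
  have := h.zR
  rw [h1, mem_bot] at this
  exact h.z1 this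

theorem zRR (h : Hyp z t R P) : z ∈ R := commutator_le_self R h.zR

theorem Rt (h : Hyp z t R P) : ∀ x ∈ R, x * t = t * x := fun x hx => h.Pt x (h.RP hx)

theorem tinv (h : Hyp z t R P) : t⁻¹ = t := inv_eq_of_mul_eq_one_right h.tt

theorem zinv (h : Hyp z t R P) : z⁻¹ = z := inv_eq_of_mul_eq_one_right h.zz

/-- `R` is not contained in a quasisimple subgroup normalising it -/
theorem not_quasisimple [Finite X] (h : Hyp z t R P) {D : Subgroup X} (hD : IsQuasisimple D) (hRD : R ≤ D)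
    (hn : ∀ x ∈ D, x * t = t * x) : False := by
  have hN : (R.subgroupOf D).Normal := by
    refine ⟨fun r hr g => ?_⟩
    rw [mem_subgroupOf] at hr ⊢
    exact h.Rn g (hn g g.2) r hr
  rcases quasisimple_normal hD _ hN with h1 | h1
  · -- `R = D` is solvable
    have h2 : D ≤ R := by
      intro x hx
      have : (⟨x, hx⟩ : D) ∈ R.subgroupOf D := by rw [h1]; trivial
      rwa [mem_subgroupOf] at this
    have h3 : ⁅D, D⁆ = D := isPerfect_iff.1 hD.1
    have h4 : D = R := le_antisymm h2 hRD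
    have : Fact (Nat.Prime 2) := ⟨Nat.prime_two⟩
    apply quasisimple_not_isSolvable hD
    have h5 := h.R2.isNilpotent
    rw [h4]
    infer_instance
  · -- `R` is abelian
    apply h.Rna
    intro a ha b hb
    have h2 := h1 (show (⟨a, hRD ha⟩ : D) ∈ R.subgroupOf D from ha)
    rw [mem_center_iff] at h2
    exact (congrArg Subtype.val (h2 ⟨b, hRD hb⟩)).symm

theorem cj_R (h : Hyp z t R P) {x : X} (hx : x * t = t * x) : cj x R = R := by
  apply le_antisymm
  · rintro _ ⟨r, hr, rfl⟩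
    exact h.Rn x hx r hr
  · intro r hr
    rw [mem_cj]
    have hx' : x⁻¹ * t = t * x⁻¹ := by
      rw [inv_mul_eq_iff_eq_mul, ← mul_assoc, hx, mul_inv_cancel_right]
    have := h.Rn x⁻¹ hx' r hr
    rwa [inv_inv] at this

theorem cj_P (h : Hyp z t R P) {x : X} (hx : x * t = t * x) : cj x P = P := by
  apply le_antisymm
  · rintro _ ⟨r, hr, rfl⟩
    exact h.Pn x hx r hr
  · intro r hr
    rw [mem_cj]
    have hx' : x⁻¹ * t = t * x⁻¹ := by
      rw [inv_mul_eq_iff_eq_mul, ← mul_assoc, hx, mul_inv_cancel_right]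
    have := h.Pn x⁻¹ hx' r hr
    rwa [inv_inv] at this

/-- `t` normalises every component -/
theorem cj_t [Finite X] (h : Hyp z t R P) {M : Subgroup X} (hM : IsComponent M) : cj t M = M := by
  by_contra hne
  obtain ⟨D, hD1, -, hD2, hD3, -⟩ := Cfsg.Agent.Cit.Comp.exists_diag hM h.tt hne
  have hDp : ⁅D, D⁆ = D := isPerfect_iff.1 hD3.1
  have hDne : D ≠ ⊥ := by
    rintro rfl
    have := quasisimple_nontrivial hD3
    exact not_nontrivial _ this
  have hRD := h.big D hD1 hD2.1 hDp hDne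
  exact h.not_quasisimple hD3 hRD (fun x hx => mem_centralizer_singleton_iff.1 (hD1 hx))

/-- the centre of `C(t)` -/
def Zt (t : X) : Subgroup X := centralizer ({t} : Set X) ⊓ centralizer (centralizer ({t} : Set X) : Set X)

theorem mem_Zt {c : X} : c ∈ Zt t ↔ c * t = t * c ∧ ∀ x, x * t = t * x → x * c = c * x := by
  rw [Zt, mem_inf, mem_centralizer_singleton_iff, mem_centralizer_iff]
  refine and_congr Iff.rfl ⟨fun h x hx => h x (mem_centralizer_singleton_iff.2 hx), fun h x hx => ?_⟩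
  exact h x (mem_centralizer_singleton_iff.1 hx)

theorem t_mem_Zt : t ∈ Zt t := mem_Zt.2 ⟨rfl, fun _ hx => hx⟩

theorem z_mem_Zt (h : Hyp z t R P) : z ∈ Zt t := mem_Zt.2 ⟨(h.zc t).symm, fun x _ => h.zc x⟩

/-- a component that is not centralised by... : `R ≤ M` and `P` normalises `M` -/
theorem R_le [Finite X] (h : Hyp z t R P) {M : Subgroup X} (hM : IsComponent M) {s r : X} (hs : s ∈ M)
    (hst : s * t = t * s) (hr : r ∈ R) (hr1 : r ≠ 1) (hrz : r ≠ z) (hsr : s = r ∨ s = t * r) :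
    R ≤ M ∧ ∀ p ∈ P, cj p M = M := by
  set S : Subgroup X := M ⊓ centralizer ({t} : Set X) with hS
  have hcomm : ∀ x ∈ S, ∀ c ∈ Zt t, x * c = c * x := fun x hx c hc =>
    (mem_Zt.1 hc).2 x (mem_centralizer_singleton_iff.1 hx.2)
  set U : Subgroup X := R ⊓ (S ⊔ Zt t) with hU
  have hcjZ : ∀ p ∈ P, cj p (Zt t) = Zt t := by
    intro p hp
    have key : ∀ q ∈ P, ∀ c ∈ Zt t, q * c * q⁻¹ = c := by
      intro q hq c hc
      rw [(mem_Zt.1 hc).2 q (h.Pt q hq), mul_inv_cancel_right]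
    apply le_antisymm
    · rintro _ ⟨c, hc, rfl⟩
      change p * c * p⁻¹ ∈ Zt t
      rw [key p hp c hc]; exact hc
    · intro c hc
      rw [mem_cj]
      have := key p⁻¹ (P.inv_mem hp) c hc
      rw [inv_inv] at this
      rw [this]; exact hc
  have hcjC : ∀ p ∈ P, cj p (centralizer ({t} : Set X)) = centralizer ({t} : Set X) := by
    intro p hp
    rw [Cfsg.Agent.Cit.cj_centralizer, h.Pt p hp, mul_inv_cancel_right]
  have hcjS : ∀ p ∈ P, cj p S = cj p M ⊓ centralizer ({t} : Set X) := by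
    intro p hp
    rw [hS, Cfsg.Agent.Cit.cj_inf, hcjC p hp]
  have hcjU : ∀ p ∈ P, cj p U = R ⊓ (cj p S ⊔ Zt t) := by
    intro p hp
    rw [hU, Cfsg.Agent.Cit.cj_inf, Cfsg.Agent.Cit.cj_sup, hcjZ p hp, h.cj_R (h.Pt p hp)]
  -- the alternatives
  have halt : ∀ p ∈ P, cj p M = M ∨ ∀ x ∈ U, ∀ y ∈ cj p U, x * y = y * x := by
    intro p hp
    by_cases hpM : cj p M = M
    · exact Or.inl hpM
    right
    intro x hx y hy
    rw [hcjU p hp] at hy
    have hcomm' : ∀ x ∈ cj p S, ∀ c ∈ Zt t, x * c = c * x := fun x hx c hc => by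
      rw [hcjS p hp] at hx
      exact (mem_Zt.1 hc).2 x (mem_centralizer_singleton_iff.1 hx.2)
    obtain ⟨a, ha, c, hc, rfl⟩ := Cfsg.Agent.Cit.Comp.mem_sup_comm hcomm hx.2
    obtain ⟨b, hb, d, hd, rfl⟩ := Cfsg.Agent.Cit.Comp.mem_sup_comm hcomm' hy.2
    have hb' : b ∈ cj p M := by rw [hcjS p hp] at hb; exact hb.1
    have hab : a * b = b * a :=
      Cfsg.Agent.Cit.Comp.comm_of_ne hM (Cfsg.Agent.Cit.Comp.isComponent_cj hM p) (fun h => hpM h.symm)
        ha.1 hb'
    have hcb : b * c = c * b := hcomm' b hb c hc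
    have had : a * d = d * a := hcomm a ha d hd
    have hcd : c * d = d * c := (mem_Zt.1 hd).2 c (mem_Zt.1 hc).1
    calc a * c * (b * d) = a * (c * b) * d := by group
      _ = a * b * (c * d) := by rw [← hcb]; group
      _ = b * a * (d * c) := by rw [hab, hcd]
      _ = b * (a * d) * c := by group
      _ = b * d * (a * c) := by rw [had]; group
  have hzU : z ∈ U := ⟨h.zRR, mem_sup_right h.z_mem_Zt⟩
  have hUR : U = R := by
    rcases h.prim U hzU inf_le_left (fun p hp => (halt p hp).imp (fun hpM => by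
      rw [hcjU p hp, hcjS p hp, hpM]) id) with h1 | h1
    · exfalso
      have hrU : r ∈ U := by
        refine ⟨hr, ?_⟩
        rcases hsr with h2 | h2
        · rw [← h2]
          exact mem_sup_left ⟨hs, mem_centralizer_singleton_iff.2 hst⟩
        · have h3 : r = t * s := by rw [h2, ← mul_assoc, h.tt, one_mul]
          rw [h3]
          exact mul_mem (mem_sup_right t_mem_Zt)
            (mem_sup_left ⟨hs, mem_centralizer_singleton_iff.2 hst⟩)
      rcases h1 r hrU with h2 | h2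
      · exact hr1 h2
      · exact hrz h2
    · exact h1
  have hPM : ∀ p ∈ P, cj p M = M := by
    intro p hp
    rcases halt p hp with h1 | h1
    · exact h1
    · exfalso
      apply h.Rna
      intro a ha b hb
      rw [hUR, h.cj_R (h.Pt p hp)] at h1
      exact h1 a ha b hb
  refine ⟨?_, hPM⟩
  -- `⁅P, R⁆ ≤ M`
  have hPR : ⁅P, R⁆ ≤ M := by
    rw [commutator_le]
    intro p hp x hx
    have hx' : x ∈ S ⊔ Zt t := by
      rw [← hUR] at hx; exact hx.2
    obtain ⟨a, ha, c, hc, rfl⟩ := Cfsg.Agent.Cit.Comp.mem_sup_comm hcomm hx'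
    have hpc : p * c = c * p := (mem_Zt.1 hc).2 p (h.Pt p hp)
    have e : p * (a * c) * p⁻¹ * (a * c)⁻¹ = p * a * p⁻¹ * a⁻¹ := by
      rw [mul_inv_rev]
      have h2 : c * p⁻¹ = p⁻¹ * c := by
        rw [eq_inv_mul_iff_mul_eq, ← mul_assoc, hpc, mul_inv_cancel_right]
      calc p * (a * c) * p⁻¹ * (c⁻¹ * a⁻¹) = p * a * (c * p⁻¹) * c⁻¹ * a⁻¹ := by group
        _ = p * a * p⁻¹ * a⁻¹ := by rw [h2]; group
    rw [commutatorElement_def, e]
    refine M.mul_mem ?_ (M.inv_mem ha.1)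
    have := conj_mem_cj (g := p) ha.1
    rwa [hPM p hp] at this
  have hPRR : ⁅P, R⁆ ≤ R := by
    rw [commutator_le]
    intro p hp x hx
    rw [commutatorElement_def]
    exact R.mul_mem (h.Rn p (h.Pt p hp) x hx) (R.inv_mem hx)
  set U₂ : Subgroup X := ⁅P, R⁆ ⊔ zpowers z with hU₂
  have hzcm : ∀ x : X, ∀ c ∈ zpowers z, x * c = c * x := by
    intro x c hc
    obtain ⟨k, rfl⟩ := mem_zpowers_iff.1 hc
    exact (show Commute x z from h.zc x).zpow_right k
  have hcjz : ∀ p : X, cj p (zpowers z) = zpowers z := by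
    intro p
    apply le_antisymm
    · rintro _ ⟨c, hc, rfl⟩
      change p * c * p⁻¹ ∈ _
      rw [hzcm p c hc, mul_inv_cancel_right]; exact hc
    · intro c hc
      have h1 : p⁻¹ * c * p = c := by rw [hzcm p⁻¹ c hc, inv_mul_cancel_right]
      rw [mem_cj, h1]; exact hc
  have hcjPR : ∀ p ∈ P, cj p ⁅P, R⁆ = ⁅P, R⁆ := by
    intro p hp
    have h1 : cj p P = P := h.cj_P (h.Pt p hp)
    have h2 : cj p R = R := h.cj_R (h.Pt p hp)
    have h3 : cj p ⁅P, R⁆ = ⁅cj p P, cj p R⁆ := map_commutator _ _ _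
    rw [h3, h1, h2]
  have hcjU₂ : ∀ p ∈ P, cj p U₂ = U₂ := by
    intro p hp
    rw [hU₂, Cfsg.Agent.Cit.cj_sup, hcjz p, hcjPR p hp]
  have hzU₂ : z ∈ U₂ := mem_sup_right (mem_zpowers z)
  have hU₂R : U₂ ≤ R := sup_le hPRR ((zpowers_le).2 h.zRR)
  rcases h.prim U₂ hzU₂ hU₂R (fun p hp => Or.inl (hcjU₂ p hp)) with h1 | h1
  · -- `P` centralises `R`
    exfalso
    have h2 : ⁅⁅P, R⁆, P⁆ = ⊥ := by
      rw [commutator_eq_bot_iff_le_centralizer]
      intro u hu
      rw [mem_centralizer_iff]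
      intro p hp
      rcases h1 u (mem_sup_left hu) with h3 | h3
      · rw [h3, mul_one, one_mul]
      · rw [h3]; exact h.zc p
    have h3 : ⁅⁅R, P⁆, P⁆ = ⊥ := by rw [commutator_comm R P]; exact h2
    have h4 : ⁅⁅P, P⁆, R⁆ = ⊥ := commutator_commutator_eq_bot_of_rotate (by rw [commutator_comm P R]; exact h3) h3
    rw [h.Pperf] at h4
    apply h.Rna
    intro a ha b hb
    have h5 := (commutator_eq_bot_iff_le_centralizer.1 h4) (h.RP ha)
    rw [mem_centralizer_iff] at h5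
    exact (h5 b hb).symm
  · -- `z ∈ ⁅R, R⁆ ≤ ⁅P, R⁆`
    have h2 : z ∈ ⁅P, R⁆ := commutator_mono h.RP le_rfl h.zR
    rw [← h1]
    exact sup_le hPR ((zpowers_le).2 (hPR h2))

/-- `P` is contained in `M` -/
theorem P_le [Finite X] (h : Hyp z t R P) {M : Subgroup X} (hM : IsComponent M) (hRM : R ≤ M)
    (hP : P ≤ M ⊔ centralizer (M : Set X)) : P ≤ M := by
  set Y : Subgroup X := centralizer (M : Set X) with hY
  have hMY : ∀ x ∈ M, ∀ y ∈ Y, x * y = y * x := fun x hx y hy => mem_centralizer_iff.1 hy x hx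
  have hcjM : cj t M = M := h.cj_t hM
  have hcjY : cj t Y = Y := by
    rw [hY]
    have h1 : cj t (centralizer (M : Set X)) = centralizer ((cj t M : Subgroup X) : Set X) := by
      apply le_antisymm
      · rintro _ ⟨c, hc, rfl⟩
        rw [mem_centralizer_iff]
        rintro _ ⟨m, hm, rfl⟩
        have h2 := congrArg (MulAut.conj t) (mem_centralizer_iff.1 hc m hm)
        rw [map_mul, map_mul] at h2
        exact h2
      · intro c hc
        rw [mem_cj, mem_centralizer_iff]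
        intro m hm
        have h2 := mem_centralizer_iff.1 hc (t * m * t⁻¹) (conj_mem_cj hm)
        calc m * (t⁻¹ * c * t) = t⁻¹ * (t * m * t⁻¹ * c) * t := by group
          _ = t⁻¹ * (c * (t * m * t⁻¹)) * t := by rw [h2]
          _ = t⁻¹ * c * t * m := by group
    rw [h1, hcjM]
  set A : Subgroup X := Y ⊓ Zt t with hA
  have hMA : ∀ x ∈ M, ∀ y ∈ A, x * y = y * x := fun x hx y hy => hMY x hx y hy.1
  -- the first step
  have hPA : P ≤ M ⊔ A := by
    rw [← h.Pperf, commutator_le]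
    intro p hp q hq
    obtain ⟨m, hm, c, hc, rfl⟩ := Cfsg.Agent.Cit.Comp.mem_sup_comm hMY (hP hp)
    obtain ⟨n, hn, d, hd, rfl⟩ := Cfsg.Agent.Cit.Comp.mem_sup_comm hMY (hP hq)
    -- `t` acts on `c` through `M ∩ Y`
    have key : ∀ m ∈ M, ∀ c ∈ Y, m * c ∈ P → ∃ e ∈ M ⊓ Y, t * c * t⁻¹ = e * c := by
      intro m hm c hc hmc
      have h1 : t * (m * c) * t⁻¹ = m * c := by
        rw [← h.Pt _ hmc, mul_inv_cancel_right]
      have hm' : t * m * t⁻¹ ∈ M := by
        have := conj_mem_cj (g := t) hm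
        rwa [hcjM] at this
      have hc' : t * c * t⁻¹ ∈ Y := by
        have := conj_mem_cj (g := t) hc
        rwa [hcjY] at this
      have h2 : (t * m * t⁻¹)⁻¹ * m = t * c * t⁻¹ * c⁻¹ := by
        have h3 : (t * m * t⁻¹) * (t * c * t⁻¹) = m * c := by rw [← h1]; group
        calc (t * m * t⁻¹)⁻¹ * m = (t * m * t⁻¹)⁻¹ * (m * c) * c⁻¹ := by group
          _ = (t * m * t⁻¹)⁻¹ * ((t * m * t⁻¹) * (t * c * t⁻¹)) * c⁻¹ := by rw [h3]
          _ = t * c * t⁻¹ * c⁻¹ := by group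
      refine ⟨t * c * t⁻¹ * c⁻¹, ⟨?_, Y.mul_mem hc' (Y.inv_mem hc)⟩, by group⟩
      rw [← h2]
      exact M.mul_mem (M.inv_mem hm') hm
    obtain ⟨e, he, hec⟩ := key m hm c hc hp
    obtain ⟨f, hf, hfd⟩ := key n hn d hd hq
    -- the commutator
    set w : X := c * d * c⁻¹ * d⁻¹ with hw
    have hwY : w ∈ Y := Y.mul_mem (Y.mul_mem (Y.mul_mem hc hd) (Y.inv_mem hc)) (Y.inv_mem hd)
    have hwt : w * t = t * w := by
      have h1 : t * w * t⁻¹ = w := by
        have h2 : t * w * t⁻¹ = (t * c * t⁻¹) * (t * d * t⁻¹) * (t * c * t⁻¹)⁻¹ * (t * d * t⁻¹)⁻¹ := by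
          rw [hw]; group
        have ec : Commute e c := hMY e he.1 c hc
        have ed : Commute e d := hMY e he.1 d hd
        have fc : Commute f c := hMY f hf.1 c hc
        have fd : Commute f d := hMY f hf.1 d hd
        have ef : Commute e f := hMY e he.1 f hf.2
        rw [h2, hec, hfd, mul_inv_rev, mul_inv_rev, hw]
        calc e * c * (f * d) * (c⁻¹ * e⁻¹) * (d⁻¹ * f⁻¹)
            = e * (c * f) * d * c⁻¹ * (e⁻¹ * d⁻¹) * f⁻¹ := by group
          _ = e * (f * c) * d * c⁻¹ * (d⁻¹ * e⁻¹) * f⁻¹ := by rw [fc.eq, (ed.inv_inv).eq]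
          _ = (e * f) * (c * d * c⁻¹ * d⁻¹) * e⁻¹ * f⁻¹ := by group
          _ = (f * e) * (e⁻¹ * (c * d * c⁻¹ * d⁻¹)) * f⁻¹ := by
              have h3 : Commute e⁻¹ (c * d * c⁻¹ * d⁻¹) :=
                (((ec.mul_right ed).mul_right ec.inv_right).mul_right ed.inv_right).inv_left
              rw [ef.eq, h3.eq]; group
          _ = f * (c * d * c⁻¹ * d⁻¹) * f⁻¹ := by group
          _ = c * d * c⁻¹ * d⁻¹ := by
              have h3 : Commute f (c * d * c⁻¹ * d⁻¹) :=
                ((fc.mul_right fd).mul_right fc.inv_right).mul_right fd.inv_right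
              rw [h3.eq, mul_inv_cancel_right]
      calc w * t = t * w * t⁻¹ * t := by rw [h1]
        _ = t * w := by group
    have hwA : w ∈ A := by
      refine ⟨hwY, ?_⟩
      rcases h.cR w hwt (fun r hr => (hMY r (hRM hr) w hwY).symm) with h1 | h1 | h1 | h1
      · rw [h1]; exact one_mem _
      · rw [h1]; exact h.z_mem_Zt
      · rw [h1]; exact t_mem_Zt
      · rw [h1]; exact mul_mem t_mem_Zt h.z_mem_Zt
    have h3 : (m * c) * (n * d) * (m * c)⁻¹ * (n * d)⁻¹ = (m * n * m⁻¹ * n⁻¹) * w := by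
      have mc : Commute m c := hMY m hm c hc
      have md : Commute m d := hMY m hm d hd
      have nc : Commute n c := hMY n hn c hc
      have nd : Commute n d := hMY n hn d hd
      rw [mul_inv_rev, mul_inv_rev, hw]
      calc m * c * (n * d) * (c⁻¹ * m⁻¹) * (d⁻¹ * n⁻¹)
          = m * (c * n) * d * (c⁻¹ * m⁻¹) * (d⁻¹ * n⁻¹) := by group
        _ = m * (n * c) * d * (m⁻¹ * c⁻¹) * (n⁻¹ * d⁻¹) := by
            rw [nc.eq, (mc.inv_inv).eq, (nd.inv_inv).eq]
        _ = m * n * (c * d * m⁻¹) * (c⁻¹ * n⁻¹) * d⁻¹ := by group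
        _ = m * n * (m⁻¹ * (c * d)) * (n⁻¹ * c⁻¹) * d⁻¹ := by
            rw [((mc.mul_right md).inv_left).eq, (nc.inv_inv).eq]
        _ = m * n * m⁻¹ * ((c * d) * n⁻¹) * c⁻¹ * d⁻¹ := by group
        _ = m * n * m⁻¹ * (n⁻¹ * (c * d)) * c⁻¹ * d⁻¹ := by
            rw [((nc.mul_right nd).inv_left).eq]
        _ = m * n * m⁻¹ * n⁻¹ * (c * d * c⁻¹ * d⁻¹) := by group
    rw [commutatorElement_def, h3]
    exact mul_mem (mem_sup_left (M.mul_mem (M.mul_mem (M.mul_mem hm hn) (M.inv_mem hm)) (M.inv_mem hn)))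
      (mem_sup_right hwA)
  -- the second step
  rw [← h.Pperf, commutator_le]
  intro p hp q hq
  obtain ⟨m, hm, c, hc, rfl⟩ := Cfsg.Agent.Cit.Comp.mem_sup_comm hMA (hPA hp)
  obtain ⟨n, hn, d, hd, rfl⟩ := Cfsg.Agent.Cit.Comp.mem_sup_comm hMA (hPA hq)
  have mc : Commute m c := hMA m hm c hc
  have md : Commute m d := hMA m hm d hd
  have nc : Commute n c := hMA n hn c hc
  have nd : Commute n d := hMA n hn d hd
  have cd : Commute c d := (mem_Zt.1 hd.2).2 c (mem_Zt.1 hc.2).1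
  have h3 : (m * c) * (n * d) * (m * c)⁻¹ * (n * d)⁻¹ = (m * n * m⁻¹ * n⁻¹) := by
    rw [mul_inv_rev, mul_inv_rev]
    calc m * c * (n * d) * (c⁻¹ * m⁻¹) * (d⁻¹ * n⁻¹)
        = m * (c * n) * d * (c⁻¹ * m⁻¹) * (d⁻¹ * n⁻¹) := by group
      _ = m * (n * c) * d * (m⁻¹ * c⁻¹) * (n⁻¹ * d⁻¹) := by
          rw [nc.eq, (mc.inv_inv).eq, (nd.inv_inv).eq]
      _ = m * n * (c * d * m⁻¹) * (c⁻¹ * n⁻¹) * d⁻¹ := by group
      _ = m * n * (m⁻¹ * (c * d)) * (n⁻¹ * c⁻¹) * d⁻¹ := by
          rw [((mc.mul_right md).inv_left).eq, (nc.inv_inv).eq]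
      _ = m * n * m⁻¹ * ((c * d) * n⁻¹) * c⁻¹ * d⁻¹ := by group
      _ = m * n * m⁻¹ * (n⁻¹ * (d * c)) * c⁻¹ * d⁻¹ := by
          have h5 : Commute n⁻¹ (c * d) := (nc.mul_right nd).inv_left
          rw [← h5.eq, cd.eq]
      _ = m * n * m⁻¹ * n⁻¹ := by group
  rw [commutatorElement_def, h3]
  exact M.mul_mem (M.mul_mem (M.mul_mem hm hn) (M.inv_mem hm)) (M.inv_mem hn)

/-- **the theorem** -/
theorem main [Finite X] (h : Hyp z t R P) {M : Subgroup X} (hM : IsComponent M)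
    (hSch : (∀ p ∈ P, cj p M = M) → P ≤ M ⊔ centralizer (M : Set X)) (hev : 2 ∣ Nat.card M) :
    (z ∈ M ∧ ∀ x ∈ M, x * x = 1 → x = 1 ∨ x = z) ∨
      (P ≤ M ∧ ((t ∈ M ∧ ∀ y ∈ centralizer (M : Set X), y = 1 ∨ y = z) ∨
        t ∉ M ⊔ centralizer (M : Set X))) := by
  set S : Subgroup X := M ⊓ centralizer ({t} : Set X) with hS
  have hSn : (S.subgroupOf (centralizer ({t} : Set X))).IsSubnormal := by
    rw [hS, inf_subgroupOf_right]
    exact hM.1.subgroupOf
  rcases h.rad S inf_le_right hSn with h1 | ⟨s, hs, r, hr, hr1, hrz, hsr⟩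
  · left
    refine unique_involution h.zz h.z1 h.tt h.t1 h.tz h.zc hM hev (fun x hx => ?_) (fun x hx hxt => ?_)
    · have := conj_mem_cj (g := t) hx
      rwa [h.cj_t hM] at this
    · exact h1 x ⟨hx, mem_centralizer_singleton_iff.2 hxt⟩
  · right
    obtain ⟨hRM, hPM⟩ := h.R_le hM hs.1 (mem_centralizer_singleton_iff.1 hs.2) hr hr1 hrz hsr
    have hP : P ≤ M := h.P_le hM hRM (hSch hPM)
    refine ⟨hP, ?_⟩
    set Y : Subgroup X := centralizer (M : Set X) with hY
    have hMY : ∀ x ∈ M, ∀ y ∈ Y, x * y = y * x := fun x hx y hy => mem_centralizer_iff.1 hy x hx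
    -- `t` does not centralise `M`
    have htY : ¬ ∀ x ∈ M, x * t = t * x := fun h1 => h.not_quasisimple hM.2 hRM h1
    by_cases htM : t ∈ M ⊔ Y
    · left
      obtain ⟨m, hm, c, hc, hmc⟩ := Cfsg.Agent.Cit.Comp.mem_sup_comm hMY htM
      have hm' : m = t * c⁻¹ := by rw [← hmc, mul_inv_cancel_right]
      have hmt : m * t = t * m := by
        have mc : Commute m c := hMY m hm c hc
        rw [← hmc, mul_assoc, mc.eq]
      have hmR : ∀ r ∈ R, m * r = r * m := by
        intro r hr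
        have h2 : Commute r c := hMY r (hRM hr) c hc
        have h3 : Commute r t := h.Rt r hr
        have h4 : Commute r m := by rw [hm']; exact h3.mul_right h2.inv_right
        exact h4.symm.eq
      have htM' : t ∈ M := by
        rcases h.cR m hmt hmR with h2 | h2 | h2 | h2
        · exfalso
          apply htY
          intro x hx
          have h3 : t = c := by rw [← hmc, h2, one_mul]
          rw [h3]; exact hMY x hx c hc
        · exfalso
          apply htY
          intro x hx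
          have h3 : t = z * c := by rw [← hmc, h2]
          have h4 : Commute x z := h.zc x
          have h5 : Commute x c := hMY x hx c hc
          rw [h3]; exact (h4.mul_right h5).eq
        · rw [← h2]; exact hm
        · have h3 : t = m * z := by rw [h2, mul_assoc, h.zz, mul_one]
          rw [h3]; exact M.mul_mem hm (hRM h.zRR)
      refine ⟨htM', fun y hy => ?_⟩
      have hyt : y * t = t * y := (hMY t htM' y hy).symm
      have hyR : ∀ r ∈ R, y * r = r * y := fun r hr => (hMY r (hRM hr) y hy).symm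
      rcases h.cR y hyt hyR with h2 | h2 | h2 | h2
      · exact Or.inl h2
      · exact Or.inr h2
      · exfalso
        apply htY
        intro x hx
        rw [← h2]; exact hMY x hx y hy
      · exfalso
        apply htY
        intro x hx
        have h3 : t = y * z := by rw [h2, mul_assoc, h.zz, mul_one]
        have h4 : Commute x y := hMY x hx y hy
        have h5 : Commute x z := h.zc x
        rw [h3]; exact (h4.mul_right h5).eq
    · exact Or.inr htM

end Hyp

end Cfsg.Agent.OddHalf.CaseM
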