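import Cfsg.Agent.OddHalf.CaseM.Sheet
import Cfsg.Agent.OddHalf.D8.JTwo.Sheet

/-!
# Case (M) of D8: the K-facts, for sheets without the `y`-trick

The statements of `CaseM/Sheet.lean` for `JTwo.Sheet.SheetX` instead of `SheetE`.
-/

set_option autoImplicit false

namespace Cfsg.Agent.OddHalf.CaseM.X

open Subgroup Cfsg
open Cfsg.Agent.OddHalf.D8.Sheet Cfsg.Agent.OddHalf.D8.JTwo.Sheet
open Cfsg.Agent.Cit (cj mem_cj conj_mem_cj conj_mem_cj_iff)

open scoped commutatorElement

section KLevel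

variable {K : Type*} [Group K] {z : K} {P R : Subgroup K}

/-- `α(R) ≤ R` for automorphisms fixing `z` -/
theorem map_R (h : SheetX z P R) (α : MulAut K) (hα : α z = z) {x : K} (hx : x ∈ R) : α x ∈ R := by
  have hP : ∀ x ∈ P, α x ∈ P := fun x hx => map_P h.perf h.cen h.der α hα hx
  have hα' : α⁻¹ z = z := by
    calc α⁻¹ z = α⁻¹ (α z) := by rw [hα]
      _ = z := MulAut.inv_apply_self _ _ _
  have hP' : ∀ x ∈ P, α⁻¹ x ∈ P := fun x hx => map_P h.perf h.cen h.der α⁻¹ hα' hx
  have h1 : R.map α.toMonoidHom ≤ R := by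
    apply h.Rmax
    · rintro _ ⟨r, hr, rfl⟩
      exact hP r (h.RP hr)
    · exact h.R2.map _
    · rintro x hx _ ⟨r, hr, rfl⟩
      refine ⟨α⁻¹ x * r * (α⁻¹ x)⁻¹, h.Rn _ (hP' x hx) r hr, ?_⟩
      change α (α⁻¹ x * r * (α⁻¹ x)⁻¹) = x * α r * x⁻¹
      rw [map_mul, map_mul, map_inv, MulAut.apply_inv_self]
  exact h1 ⟨x, hx, rfl⟩

/-- `⁅R, R⁆ ≤ ⟨z⟩` -/
theorem comm_R [Finite K] (h : SheetX z P R) : ∀ x ∈ ⁅R, R⁆, x = 1 ∨ x = z := by
  have : Fact (Nat.Prime 2) := ⟨Nat.prime_two⟩
  have hle : ⁅R, R⁆ ≤ R := commutator_le_self R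
  have hn : ∀ x ∈ P, ∀ b ∈ ⁅R, R⁆, x * b * x⁻¹ ∈ ⁅R, R⁆ := by
    intro x hx b hb
    have h1 : R.map (MulAut.conj x).toMonoidHom = R := by
      apply le_antisymm
      · rintro _ ⟨r, hr, rfl⟩
        exact h.Rn x hx r hr
      · intro r hr
        refine ⟨x⁻¹ * r * x⁻¹⁻¹, h.Rn _ (P.inv_mem hx) r hr, ?_⟩
        change x * (x⁻¹ * r * x⁻¹⁻¹) * x⁻¹ = r
        group
    have h2 : (⁅R, R⁆ : Subgroup K).map (MulAut.conj x).toMonoidHom = ⁅R, R⁆ := by
      rw [map_commutator, h1]
    rw [← h2]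
    exact ⟨b, hb, rfl⟩
  rcases h.Rmin _ hle hn with h1 | h1
  · exact h1
  · exfalso
    -- a perfect 2-group
    have hnil : Group.IsNilpotent R := h.R2.isNilpotent
    have hsol : Group.IsSolvable R := inferInstance
    have h3 : commutator R = ⊤ := by
      rw [_root_.commutator_def]
      apply map_injective R.subtype_injective
      rw [map_commutator, ← MonoidHom.range_eq_map, range_subtype, h1]
    have h4 : ∀ n : ℕ, derivedSeries R n = ⊤ := by
      intro n
      induction n with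
      | zero => rfl
      | succ n ih => rw [derivedSeries_succ, ih, ← _root_.commutator_def, h3]
    obtain ⟨n, hn⟩ := hsol.solvable
    rw [h4 n] at hn
    have h5 : (⟨z, h.zR⟩ : R) ∈ (⊥ : Subgroup R) := by rw [← hn]; exact mem_top _
    exact h.z1 (congrArg Subtype.val (mem_bot.1 h5))

theorem z_mem_comm [Finite K] (h : SheetX z P R) : z ∈ ⁅R, R⁆ := by
  obtain ⟨a, ha, b, hb, hab⟩ := h.Rna
  have h1 : ⁅a, b⁆ ∈ ⁅R, R⁆ := commutator_mem_commutator ha hb
  rcases comm_R h _ h1 with h2 | h2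
  · exact absurd (commutatorElement_eq_one_iff_mul_comm.1 h2) hab
  · rwa [h2] at h1

/-- the core facts -/
theorem core [Finite K] (h : SheetX z P R) (m : SheetM P R) :
    Core (⟨z, h.zP⟩ : P) (R.subgroupOf P) := by
  have hmapR : (R.subgroupOf P).map P.subtype = R := by
    rw [subgroupOf_map_subtype, inf_of_le_left h.RP]
  have hinj : Function.Injective (Subgroup.map P.subtype) := map_injective P.subtype_injective
  constructor
  · intro S hS hp hne
    have h1 := m.big (S.map P.subtype) (map_subtype_le _) (by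
      have : (S.map P.subtype).subgroupOf P = S := comap_map_eq_self_of_injective P.subtype_injective S
      rw [this]; exact hS) (by rw [← map_commutator, hp]) (by
      intro h0
      apply hne
      apply hinj
      rw [h0, Subgroup.map_bot])
    apply hinj
    rw [map_commutator, hmapR, h1]
  · obtain ⟨w, hw, hidx⟩ := m.idx
    have hcardR : Nat.card (R.subgroupOf P) ≤ 2 ^ (2 * w + 1) := by
      rw [Nat.card_congr (subgroupOfEquivOfLe h.RP).toEquiv]; exact hw
    obtain ⟨a, ha, b, hb, hab⟩ := h.Rna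
    refine prim_of (w := w) (fun q => Subtype.ext (h.cen q q.2)) (Subtype.ext h.zz)
      (fun h0 => h.z1 (congrArg Subtype.val h0)) h.zR ⟨fun r hr g => h.Rn g g.2 r hr⟩ ?_ ?_
      ⟨⟨a, h.RP ha⟩, ha, ⟨b, h.RP hb⟩, hb, fun h0 => hab (congrArg Subtype.val h0)⟩ hcardR ?_
    · intro x hx y hy
      have h1 : ⁅(x : K), (y : K)⁆ ∈ ⁅R, R⁆ := commutator_mem_commutator hx hy
      rcases comm_R h _ h1 with h2 | h2
      · exact Or.inl (Subtype.ext h2)
      · exact Or.inr (Subtype.ext h2)
    · intro B hB hBn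
      rcases h.Rmin (B.map P.subtype) (by
          rintro _ ⟨x, hx, rfl⟩
          exact hB hx) (by
          rintro x hx _ ⟨b, hb, rfl⟩
          exact ⟨⟨x, hx⟩ * b * ⟨x, hx⟩⁻¹, hBn.conj_mem b hb ⟨x, hx⟩, rfl⟩) with h1 | h1
      · left
        intro b hb
        rcases h1 b ⟨b, hb, rfl⟩ with h2 | h2
        · exact Or.inl (Subtype.ext h2)
        · exact Or.inr (Subtype.ext h2)
      · right
        apply hinj
        rw [h1, hmapR]
    · intro H hH
      have h1 := hidx (H.map P.subtype) (map_subtype_le _) (by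
        have : (H.map P.subtype).relIndex P = H.index := by
          rw [relIndex, show (H.map P.subtype).subgroupOf P = H from
            comap_map_eq_self_of_injective P.subtype_injective H]
        rw [this]; exact hH)
      apply hinj
      rw [h1, ← MonoidHom.range_eq_map, range_subtype]

/-- `(big)` for `P/R` quasisimple -/
theorem big_of_quasisimple [Finite K] (h : SheetX z P R)
    (hq : ∀ N : Subgroup K, N ≤ P → R ≤ N → (∀ p ∈ P, ∀ n ∈ N, p * n * p⁻¹ ∈ N) → ⁅N, P⁆ ≤ R ∨ N = P) :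
    ∀ S : Subgroup K, S ≤ P → (S.subgroupOf P).IsSubnormal → ⁅S, S⁆ = S → S ≠ ⊥ → ⁅R, S⁆ = R := by
  intro S hSP hS hp hne
  have hmapR : (R.subgroupOf P).map P.subtype = R := by
    rw [subgroupOf_map_subtype, inf_of_le_left h.RP]
  have hmapS : (S.subgroupOf P).map P.subtype = S := by
    rw [subgroupOf_map_subtype, inf_of_le_left hSP]
  have hinj : Function.Injective (Subgroup.map P.subtype) := map_injective P.subtype_injective
  -- `S` is not contained in `R`
  have hSR : ¬ S ≤ R := fun hSR => hne (eq_bot_of_perfect_two hp (h.R2.to_le hSR))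
  -- `S R = P`
  have htop : S.subgroupOf P ⊔ R.subgroupOf P = ⊤ := by
    have hRn : (R.subgroupOf P).Normal := ⟨fun r hr g => h.Rn g g.2 r hr⟩
    apply sup_eq_top hRn
    · intro N hRN hN
      rcases hq (N.map P.subtype) (map_subtype_le _) (by
          rw [← hmapR]; exact map_mono hRN) (by
          rintro x hx _ ⟨b, hb, rfl⟩
          exact ⟨⟨x, hx⟩ * b * ⟨x, hx⟩⁻¹, hN.conj_mem b hb ⟨x, hx⟩, rfl⟩) with h1 | h1
      · left
        rw [← map_le_map_iff_of_injective P.subtype_injective, map_commutator, hmapR,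
          ← MonoidHom.range_eq_map, range_subtype]
        exact h1
      · right
        apply hinj
        rw [h1, ← MonoidHom.range_eq_map, range_subtype]
    · apply hinj
      rw [map_commutator, hmapS, hp]
    · intro hle
      apply hSR
      have := map_mono (f := P.subtype) hle
      rwa [hmapS, hmapR] at this
    · exact hS
  have htop' : S ⊔ R = P := by
    have := congrArg (Subgroup.map P.subtype) htop
    rwa [Subgroup.map_sup, hmapS, hmapR, ← MonoidHom.range_eq_map, range_subtype] at this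
  have hnorm : ∀ p ∈ P, ∀ n ∈ ⁅R, S⁆, p * n * p⁻¹ ∈ ⁅R, S⁆ := by
    have h1 : P ≤ normalizer (((⁅R, S⁆ : Subgroup K)) : Set K) := by
      calc P = S ⊔ R := htop'.symm
        _ ≤ _ := sup_le (Cfsg.Agent.Lib.CoprimeCommutator.right_le_normalizer_commutator R S)
            (Cfsg.Agent.Lib.CoprimeCommutator.left_le_normalizer_commutator R S)
    intro p hp n hn
    exact (mem_normalizer_iff.1 (h1 hp) n).1 hn
  have hle : ⁅R, S⁆ ≤ R := by
    rw [commutator_le]
    intro r hr x hx
    have e : ⁅r, x⁆ = r * (x * r⁻¹ * x⁻¹) := by rw [commutatorElement_def]; group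
    rw [e]
    exact R.mul_mem hr (h.Rn x (hSP hx) _ (R.inv_mem hr))
  rcases h.Rmin _ hle hnorm with h1 | h1
  swap
  · exact h1
  exfalso
  apply hSR
  have h2 : ⁅⁅R, S⁆, S⁆ = ⊥ := by
    rw [commutator_eq_bot_iff_le_centralizer]
    intro u hu
    rw [mem_centralizer_iff]
    intro p hp
    rcases h1 u hu with h3 | h3
    · rw [h3, mul_one, one_mul]
    · rw [h3]; exact h.cen p (hSP hp)
  have h3 : ⁅⁅S, S⁆, R⁆ = ⊥ := commutator_commutator_eq_bot_of_rotate (by rw [commutator_comm S R]; exact h2) h2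
  rw [hp] at h3
  intro x hx
  apply h.cR x (hSP hx)
  intro r hr
  have h5 := (commutator_eq_bot_iff_le_centralizer.1 h3) hx
  rw [mem_centralizer_iff] at h5
  exact (h5 r hr).symm

/-- the hypothesis of `idx_of_prime` for `P/R` quasisimple: a noncentral `p`-element -/
theorem gen_of_quasisimple [Finite K] (h : SheetX z P R)
    (hq : ∀ N : Subgroup K, N ≤ P → R ≤ N → (∀ p ∈ P, ∀ n ∈ N, p * n * p⁻¹ ∈ N) → ⁅N, P⁆ ≤ R ∨ N = P)
    {p : ℕ} {x y : K} (hx : x ∈ P) (hxp : IsPGroup p (zpowers x)) (hy : y ∈ P) (hxy : ⁅x, y⁆ ∉ R) :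
    ∀ N : Subgroup K, N ≤ P → (∀ x ∈ P, IsPGroup p (zpowers x) → x ∈ N) → N = P := by
  intro N hNP hN
  -- the subgroup generated by the `p`-elements
  set N1 : Subgroup K := closure {x | x ∈ P ∧ IsPGroup p (zpowers x)} with hN1
  have hN1N : N1 ≤ N := by
    rw [hN1, closure_le]
    rintro x ⟨h1, h2⟩
    exact hN x h1 h2
  have hN1P : N1 ≤ P := hN1N.trans hNP
  have hconj : ∀ g ∈ P, ∀ n ∈ N1, g * n * g⁻¹ ∈ N1 := by
    intro g hg n hn
    have h1 : N1.map (MulAut.conj g).toMonoidHom ≤ N1 := by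
      rw [hN1, MonoidHom.map_closure, closure_le]
      rintro _ ⟨x, ⟨h1, h2⟩, rfl⟩
      apply Subgroup.subset_closure
      refine ⟨P.mul_mem (P.mul_mem hg h1) (P.inv_mem hg), ?_⟩
      have h3 := h2.map (MulAut.conj g).toMonoidHom
      rwa [MonoidHom.map_zpowers] at h3
    exact h1 ⟨n, hn, rfl⟩
  have hRn : ∀ g ∈ P, ∀ n ∈ N1 ⊔ R, g * n * g⁻¹ ∈ N1 ⊔ R := by
    intro g hg n hn
    have h1 : (N1 ⊔ R).map (MulAut.conj g).toMonoidHom ≤ N1 ⊔ R := by
      rw [Subgroup.map_sup]
      apply sup_le_sup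
      · rintro _ ⟨x, hx, rfl⟩
        exact hconj g hg x hx
      · rintro _ ⟨x, hx, rfl⟩
        exact h.Rn g hg x hx
    exact h1 ⟨n, hn, rfl⟩
  rcases hq (N1 ⊔ R) (sup_le hN1P h.RP) le_sup_right hRn with h1 | h1
  · exfalso
    apply hxy
    apply h1
    exact commutator_mem_commutator (mem_sup_left (Subgroup.subset_closure ⟨hx, hxp⟩)) hy
  · -- `P = N1 R`, `P / N1` is a 2-group
    have h2 : P ≤ N1 := by
      -- work in `P`
      have hnorm : (N1.subgroupOf P).Normal := ⟨fun n hn g => hconj g g.2 n hn⟩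
      have hsup : N1.subgroupOf P ⊔ R.subgroupOf P = ⊤ := by
        apply map_injective P.subtype_injective
        rw [Subgroup.map_sup, subgroupOf_map_subtype, subgroupOf_map_subtype, inf_of_le_left hN1P,
          inf_of_le_left h.RP, h1, ← MonoidHom.range_eq_map, range_subtype]
      have hperf : commutator P = ⊤ := by
        rw [_root_.commutator_def]
        apply map_injective P.subtype_injective
        rw [map_commutator, ← MonoidHom.range_eq_map, range_subtype, h.perf]
      have : Fact (Nat.Prime 2) := ⟨Nat.prime_two⟩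
      -- the quotient
      let π := QuotientGroup.mk' (N1.subgroupOf P)
      have hsurj : (R.subgroupOf P).map π = ⊤ := by
        have h3 := congrArg (Subgroup.map π) hsup
        rw [Subgroup.map_sup, (QuotientGroup.map_mk'_self (N1.subgroupOf P)), bot_sup_eq,
          ← MonoidHom.range_eq_map, MonoidHom.range_eq_top.2 (QuotientGroup.mk'_surjective _)] at h3
        exact h3
      have hR2' : IsPGroup 2 (R.subgroupOf P) := h.R2.comap_subtype
      have h2g : IsPGroup 2 ((R.subgroupOf P).map π) := hR2'.map π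
      rw [hsurj] at h2g
      have hperf' : ⁅(⊤ : Subgroup (P ⧸ N1.subgroupOf P)), (⊤ : Subgroup (P ⧸ N1.subgroupOf P))⁆ =
          (⊤ : Subgroup (P ⧸ N1.subgroupOf P)) := by
        have h4 := congrArg (Subgroup.map π) hperf
        rw [_root_.commutator_def, map_commutator, ← MonoidHom.range_eq_map,
          MonoidHom.range_eq_top.2 (QuotientGroup.mk'_surjective _)] at h4
        exact h4
      have h5 := eq_bot_of_perfect_two hperf' h2g
      intro x hx
      have h6 : π ⟨x, hx⟩ ∈ (⊤ : Subgroup (P ⧸ N1.subgroupOf P)) := mem_top _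
      rw [h5, mem_bot] at h6
      have h7 : (⟨x, hx⟩ : P) ∈ N1.subgroupOf P := (QuotientGroup.eq_one_iff (N := N1.subgroupOf P) _).1 h6
      exact mem_subgroupOf.1 h7
    exact le_antisymm hNP (h2.trans hN1N)

/-- `(odd)`: the indices `|Aut K : Inn K|` and `|C_K(z) : P|` are powers of 2 -/
theorem odd_of_index [Finite K] (h : SheetX z P R)
    (hout : ∃ n, (MulAut.conj : K →* MulAut K).range.index = 2 ^ n)
    (hP : ∃ n, P.relIndex (centralizer ({z} : Set K)) = 2 ^ n) :
    ∀ α : MulAut K, Odd (orderOf α) → (∀ x ∈ P, α x = x) → α = 1 := by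
  intro α hodd hα
  obtain ⟨n, hn⟩ := hout
  obtain ⟨m, hm⟩ := hP
  have hnorm : ((MulAut.conj : K →* MulAut K).range).Normal := by
    constructor
    rintro _ ⟨k, rfl⟩ φ
    refine ⟨φ k, ?_⟩
    apply MulEquiv.ext
    intro x
    rw [MulAut.mul_apply, MulAut.mul_apply, MulAut.conj_apply, MulAut.conj_apply, map_mul, map_mul, map_inv,
      MulAut.apply_inv_self]
  -- `α` is inner
  have h1 : α ^ (2 ^ n) ∈ (MulAut.conj : K →* MulAut K).range := by
    rw [← hn]; exact pow_index_mem _ _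
  have hcop : ∀ k : ℕ, (orderOf α).Coprime (2 ^ k) := fun k =>
    Nat.Coprime.pow_right k ((Nat.coprime_two_right).2 hodd)
  obtain ⟨j, hj⟩ := exists_pow_eq_self_of_coprime (hcop n).symm
  have h2 : α ∈ (MulAut.conj : K →* MulAut K).range := by
    rw [← hj]; exact pow_mem h1 j
  obtain ⟨k, rfl⟩ := h2
  have hkP : ∀ x ∈ P, k * x = x * k := by
    intro x hx
    have := hα x hx
    rw [MulAut.conj_apply, mul_inv_eq_iff_eq_mul] at this
    exact this
  have hkz : k ∈ centralizer ({z} : Set K) := mem_centralizer_singleton_iff.2 (hkP z h.zP)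
  have hPn : (P.subgroupOf (centralizer ({z} : Set K))).Normal := by
    constructor
    intro x hx g
    have hg := mem_centralizer_singleton_iff.1 g.2
    have := map_P h.perf h.cen h.der (MulAut.conj (g : K)) (by
      rw [MulAut.conj_apply, hg]; group) (mem_subgroupOf.1 hx)
    exact mem_subgroupOf.2 this
  have h3 : k ^ (2 ^ m) ∈ P := by
    have := pow_index_mem (P.subgroupOf (centralizer ({z} : Set K))) ⟨k, hkz⟩
    rw [← relIndex, hm] at this
    exact this
  have h4 : k ^ (2 ^ m) ∈ R := by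
    apply h.cR _ h3
    intro r hr
    have hc : Commute k r := hkP r (h.RP hr)
    exact (hc.pow_left _).eq
  obtain ⟨l, hl⟩ := h.R2 ⟨_, h4⟩
  have h5 : k ^ (2 ^ (m + l)) = 1 := by
    rw [pow_add, pow_mul]
    exact congrArg Subtype.val hl
  have h6 : (MulAut.conj k) ^ (2 ^ (m + l)) = 1 := by rw [← map_pow, h5, map_one]
  have h7 := orderOf_dvd_of_pow_eq_one h6
  have h8 : orderOf (MulAut.conj k) = 1 := Nat.eq_one_of_dvd_coprimes (hcop (m + l)) dvd_rfl h7
  exact orderOf_eq_one_iff.1 h8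

/-- `SheetM` for `P/R` quasisimple -/
theorem of_quasisimple [Finite K] (h : SheetX z P R)
    (hq : ∀ N : Subgroup K, N ≤ P → R ≤ N → (∀ p ∈ P, ∀ n ∈ N, p * n * p⁻¹ ∈ N) → ⁅N, P⁆ ≤ R ∨ N = P)
    {p w : ℕ} (hp : p.Prime) (hw : w < p) (hcard : Nat.card R ≤ 2 ^ (2 * w + 1)) {x y : K} (hx : x ∈ P)
    (hxp : IsPGroup p (zpowers x)) (hy : y ∈ P) (hxy : ⁅x, y⁆ ∉ R)
    (hout : ∃ n, (MulAut.conj : K →* MulAut K).range.index = 2 ^ n)
    (hP : ∃ n, P.relIndex (centralizer ({z} : Set K)) = 2 ^ n) : SheetM P R where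
  big := big_of_quasisimple h hq
  idx := ⟨w, hcard, idx_of_prime hp hw (gen_of_quasisimple h hq hx hxp hy hxy)⟩
  odd := odd_of_index h hout hP

end KLevel

end Cfsg.Agent.OddHalf.CaseM.X
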