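import Cfsg.Agent.Cit.Comp
import Cfsg.Agent.S0112
import Cfsg.Agent.S0113
import Cfsg.Agent.S0542
import Cfsg.Agent.Transfer.ThompsonTransfer
import Cfsg.Agent.Lib.NormalAbelian

/-!
# Components with a small centralizer of an involutory automorphism

`z` a central involution of `X`, `t` an involution normalising the component `M`, `C_M(t) ⊆ {1, z, t, tz}`. Then
`z` is the only involution of `M` (`unique_involution`).
-/

set_option autoImplicit false

namespace Cfsg.Agent.OddHalf.CaseM

open Subgroup Cfsg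
open Cfsg.Agent.SignalizersComponents.Components
open Cfsg.Agent.Cit (cj mem_cj conj_mem_cj)

/-- a 2-group with a self-centralising four-group `{1, z, t, tz}`, `z` central, has a subgroup of index two with
only one involution -/
theorem exists_index_two {W : Type*} [Group W] [Finite W] (hW : IsPGroup 2 W) {z t : W} (hz : z * z = 1)
    (hz1 : z ≠ 1) (ht : t * t = 1) (ht1 : t ≠ 1) (htz : t ≠ z) (hzc : ∀ x, x * z = z * x)
    (hC : ∀ x, x * t = t * x → x = 1 ∨ x = z ∨ x = t ∨ x = t * z) :
    ∃ C : Subgroup W, C.index = 2 ∧ ∀ x ∈ C, x * x = 1 → x = 1 ∨ x = z := by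
  classical
  have : Fact (Nat.Prime 2) := ⟨Nat.prime_two⟩
  have hzi : z⁻¹ = z := inv_eq_of_mul_eq_one_right hz
  have hti : t⁻¹ = t := inv_eq_of_mul_eq_one_right ht
  -- the four-group
  let A : Subgroup W := centralizer ({t} : Set W)
  have hmemA : ∀ x, x ∈ A ↔ x = 1 ∨ x = z ∨ x = t ∨ x = t * z := by
    intro x
    constructor
    · intro hx
      exact hC x (mem_centralizer_singleton_iff.1 hx)
    · intro hx
      rw [mem_centralizer_singleton_iff]
      rcases hx with rfl | rfl | rfl | rfl
      · rw [one_mul, mul_one]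
      · exact (hzc t).symm
      · rfl
      · rw [mul_assoc, ← hzc t, ← mul_assoc]
  have htzne1 : t * z ≠ 1 := by
    intro h
    apply htz
    rw [mul_eq_one_iff_eq_inv, hzi] at h
    exact h
  have htznet : t * z ≠ t := by
    intro h; exact hz1 (mul_eq_left.1 h)
  have htznez : t * z ≠ z := by
    intro h; exact ht1 (mul_eq_right.1 h)
  have hcardA : Nat.card A = 4 := by
    have h1 : (A : Set W) = ↑({1, z, t, t * z} : Finset W) := by
      ext x
      simp only [SetLike.mem_coe, hmemA, Finset.coe_insert, Finset.coe_singleton, Set.mem_insert_iff,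
        Set.mem_singleton_iff]
    have h2 : Nat.card A = ({1, z, t, t * z} : Finset W).card := by
      rw [show Nat.card A = Nat.card (A : Set W) from rfl, h1, Nat.card_coe_set_eq, Set.ncard_coe_finset]
    rw [h2]
    rw [Finset.card_insert_of_notMem, Finset.card_insert_of_notMem, Finset.card_insert_of_notMem,
      Finset.card_singleton]
    · simp only [Finset.mem_singleton]; exact htznet.symm
    · simp only [Finset.mem_insert, Finset.mem_singleton, not_or]
      exact ⟨htz.symm, htznez.symm⟩
    · simp only [Finset.mem_insert, Finset.mem_singleton, not_or]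
      exact ⟨hz1.symm, ht1.symm, htzne1.symm⟩
  have hAcomm : ∀ x ∈ A, ∀ y ∈ A, x * y = y * x := by
    intro x hx y hy
    have hxt : x * t = t * x := mem_centralizer_singleton_iff.1 hx
    rw [hmemA] at hy
    rcases hy with rfl | rfl | rfl | rfl
    · rw [one_mul, mul_one]
    · exact hzc x
    · exact hxt
    · rw [← mul_assoc, hxt, mul_assoc, hzc x, mul_assoc]
  obtain ⟨n, hn⟩ := IsPGroup.iff_card.1 hW
  have hAle : Nat.card A ∣ Nat.card W := card_subgroup_dvd_card A
  rw [hcardA, hn] at hAle
  have hn2 : 2 ≤ n := by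
    have : (2 : ℕ) ^ 2 ∣ 2 ^ n := hAle
    exact (Nat.pow_dvd_pow_iff_le_right (by norm_num)).1 this
  by_cases hn3 : n = 2
  · -- order four
    refine ⟨zpowers z, ?_, ?_⟩
    · have h1 : Nat.card (zpowers z) = 2 := by
        rw [Nat.card_zpowers]
        exact orderOf_eq_prime (by rw [pow_two, hz]) hz1
      have h2 := (zpowers z).card_mul_index
      rw [h1, hn, hn3] at h2
      omega
    · intro x hx _
      obtain ⟨k, rfl⟩ := mem_zpowers_iff.1 hx
      rcases Int.even_or_odd k with ⟨m, rfl⟩ | ⟨m, rfl⟩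
      · left
        rw [← two_mul, zpow_mul, zpow_ofNat, pow_two, hz, one_zpow]
      · right
        rw [zpow_add, zpow_mul, zpow_ofNat, pow_two, hz, one_zpow, one_mul, zpow_one]
  · have hn4 : 3 ≤ n := by omega
    have hcent : centralizer (A : Set W) = A := by
      apply le_antisymm
      · intro x hx
        rw [mem_centralizer_iff] at hx
        have h1 := hx t ((hmemA t).2 (Or.inr (Or.inr (Or.inl rfl))))
        exact mem_centralizer_singleton_iff.2 h1.symm
      · intro x hx
        rw [mem_centralizer_iff]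
        intro y hy
        exact hAcomm y hy x hx
    have hcls := Cfsg.Agent.S0112.result (p := 2) n hn A (by rw [hcardA]; norm_num) hcent
    obtain ⟨C, hCcyc, hCidx⟩ := Cfsg.Agent.S0113.result n hn4 hn hcls
    refine ⟨C, hCidx, ?_⟩
    -- the involution of `C` is central
    have hCn : C.Normal := normal_of_index_eq_two hCidx
    intro x hx hxx
    by_cases hx1 : x = 1
    · exact Or.inl hx1
    right
    have hord : ∀ y : C, orderOf y = 2 → (y : W) = x := by
      intro y hy
      by_contra hne
      have := Fintype.ofFinite C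
      have h1 := IsCyclic.card_pow_eq_one_le (α := C) (n := 2) (by norm_num)
      have h2 : ({1, ⟨x, hx⟩, y} : Finset C) ⊆ Finset.univ.filter (fun a : C => a ^ 2 = 1) := by
        intro a ha
        simp only [Finset.mem_insert, Finset.mem_singleton] at ha
        rw [Finset.mem_filter]
        refine ⟨Finset.mem_univ _, ?_⟩
        rcases ha with rfl | rfl | rfl
        · rw [one_pow]
        · apply Subtype.ext
          rw [Subgroup.coe_pow, pow_two]
          exact hxx
        · rw [← hy, pow_orderOf_eq_one]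
      have h3 := Finset.card_le_card h2
      rw [Finset.card_insert_of_notMem, Finset.card_insert_of_notMem, Finset.card_singleton] at h3
      · omega
      · rw [Finset.mem_singleton]
        intro h; exact hne (congrArg Subtype.val h).symm
      · simp only [Finset.mem_insert, Finset.mem_singleton, not_or]
        refine ⟨fun h => hx1 (congrArg Subtype.val h).symm, ?_⟩
        rintro rfl
        rw [orderOf_one] at hy
        exact absurd hy (by decide)
    have hxc : ∀ w : W, w * x = x * w := by
      intro w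
      have h1 : w * x * w⁻¹ ∈ C := hCn.conj_mem x hx w
      have h2 : orderOf (⟨w * x * w⁻¹, h1⟩ : C) = 2 := by
        apply orderOf_eq_prime
        · apply Subtype.ext
          rw [Subgroup.coe_pow, Subgroup.coe_mk, pow_two]
          calc w * x * w⁻¹ * (w * x * w⁻¹) = w * (x * x) * w⁻¹ := by group
            _ = 1 := by rw [hxx]; group
        · intro h
          have h3 := congrArg Subtype.val h
          simp only [Subgroup.coe_one] at h3
          rw [mul_inv_eq_one] at h3
          exact hx1 (mul_eq_left.1 h3)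
      have h3 := hord _ h2
      simp only at h3
      rw [mul_inv_eq_iff_eq_mul] at h3
      exact h3
    rcases hC x (hxc t).symm with h | h | h | h
    · exact absurd h hx1
    · exact h
    · exfalso
      -- `t` central: the group has order at most four
      have h1 : A = ⊤ := by
        rw [eq_top_iff]
        intro w _
        rw [mem_centralizer_singleton_iff, ← h]
        exact hxc w
      rw [h1, Subgroup.card_top, hn] at hcardA
      have : (2 : ℕ) ^ 3 ≤ 2 ^ n := Nat.pow_le_pow_right (by norm_num) hn4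
      omega
    · exfalso
      have h1 : A = ⊤ := by
        rw [eq_top_iff]
        intro w _
        rw [mem_centralizer_singleton_iff]
        have h2 := hxc w
        rw [h] at h2
        have h3 : t = t * z * z := by rw [mul_assoc, hz, mul_one]
        calc w * t = w * (t * z) * z := by rw [mul_assoc, mul_assoc, hz, mul_one]
          _ = t * z * w * z := by rw [h2]
          _ = t * z * (w * z) := by rw [mul_assoc]
          _ = t * (z * z) * w := by rw [hzc w]; group
          _ = t * w := by rw [hz, mul_one]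
      rw [h1, Subgroup.card_top, hn] at hcardA
      have : (2 : ℕ) ^ 3 ≤ 2 ^ n := Nat.pow_le_pow_right (by norm_num) hn4
      omega

/-- Thompson transfer in a perfect group -/
theorem exists_conj_of_perfect {M : Type*} [Group M] [Finite M] (hM : Group.IsPerfect M) (P : Sylow 2 M)
    (Q : Subgroup M) (hQP : Q ≤ (P : Subgroup M)) (hQi : Q.relIndex (P : Subgroup M) = 2) (u : M)
    (hu : u * u = 1) : ∃ g : M, g * u * g⁻¹ ∈ Q := by
  by_contra h
  push Not at h
  obtain ⟨m, hm, hm'⟩ := Cfsg.Agent.Transfer.ThompsonTransfer.exists_index_eq P Q hQP hQi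
  obtain ⟨f, hf⟩ := Cfsg.Agent.Transfer.ThompsonTransfer.exists_hom_eq_neg_one Q hm hm' u
    (by rw [pow_two, hu]) h
  have h1 : u ∈ f.ker := by
    have h2 : commutator M ≤ f.ker := Abelianization.commutator_subset_ker f
    rw [hM.commutator_eq_top] at h2
    exact h2 trivial
  rw [MonoidHom.mem_ker, hf] at h1
  exact absurd h1 (by decide)

/-- **components of 2-rank one** -/
theorem unique_involution {X : Type*} [Group X] [Finite X] {z t : X} (hz : z * z = 1) (hz1 : z ≠ 1)
    (ht : t * t = 1) (ht1 : t ≠ 1) (htz : t ≠ z) (hzc : ∀ x, x * z = z * x) {M : Subgroup X}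
    (hM : IsComponent M) (hev : 2 ∣ Nat.card M) (hMt : ∀ x ∈ M, t * x * t⁻¹ ∈ M)
    (hC : ∀ x ∈ M, x * t = t * x → x = 1 ∨ x = z ∨ x = t ∨ x = t * z) :
    z ∈ M ∧ ∀ v ∈ M, v * v = 1 → v = 1 ∨ v = z := by
  classical
  have : Fact (Nat.Prime 2) := ⟨Nat.prime_two⟩
  have hti : t⁻¹ = t := inv_eq_of_mul_eq_one_right ht
  have hzi : z⁻¹ = z := inv_eq_of_mul_eq_one_right hz
  -- a Sylow 2-subgroup containing `t` and `z`
  have hp : IsPGroup 2 (zpowers t) := IsPGroup.of_card (n := 1) (by
    rw [Nat.card_zpowers, pow_one]; exact orderOf_eq_prime (by rw [pow_two, ht]) ht1)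
  have hpz : IsPGroup 2 (zpowers z) := IsPGroup.of_card (n := 1) (by
    rw [Nat.card_zpowers, pow_one]; exact orderOf_eq_prime (by rw [pow_two, hz]) hz1)
  obtain ⟨T, hT⟩ := hp.exists_le_sylow
  have htT : t ∈ (T : Subgroup X) := hT (mem_zpowers t)
  have hzT : z ∈ (T : Subgroup X) := by
    have h1 : IsPGroup 2 (((T : Subgroup X) ⊔ zpowers z : Subgroup X)) := by
      have hn : (zpowers z).Normal := by
        refine ⟨fun n hn g => ?_⟩
        obtain ⟨k, rfl⟩ := mem_zpowers_iff.1 hn
        have : Commute g (z ^ k) := (show Commute g z from hzc g).zpow_right k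
        rw [this.eq, mul_inv_cancel_right]
        exact zpow_mem (mem_zpowers z) k
      exact IsPGroup.to_sup_of_normal_right T.2 hpz
    have h2 := T.is_maximal' h1 le_sup_left
    rw [← h2]
    exact (le_sup_right : zpowers z ≤ _) (mem_zpowers z)
  obtain ⟨Q, hQ⟩ := Cfsg.Agent.S0542.result 2 M hM.1 T
  have hQmem : ∀ x : M, x ∈ (Q : Subgroup M) ↔ (x : X) ∈ (T : Subgroup X) := by
    intro x; rw [hQ, mem_subgroupOf]
  -- the 2-group `W₀ = N_T(M)` and its normal subgroup `S = T ⊓ M`
  let S : Subgroup X := (T : Subgroup X) ⊓ M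
  let W₀ : Subgroup X := (T : Subgroup X) ⊓ normalizer (M : Set X)
  have hMN : M ≤ normalizer (M : Set X) := le_normalizer
  have hSW : S ≤ W₀ := fun s hs => ⟨hs.1, hMN hs.2⟩
  have htN : t ∈ normalizer (M : Set X) := by
    rw [mem_normalizer_iff]
    intro x
    refine ⟨fun h => hMt x h, fun h => ?_⟩
    have h1 := hMt _ h
    rw [hti] at h1
    have h2 : t * (t * x * t) * t = x := by
      calc t * (t * x * t) * t = (t * t) * x * (t * t) := by group
        _ = x := by rw [ht, one_mul, mul_one]
    rwa [h2] at h1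
  have htW : t ∈ W₀ := ⟨htT, htN⟩
  have hW₀ : IsPGroup 2 W₀ := T.2.to_le inf_le_left
  let S₀ : Subgroup W₀ := S.subgroupOf W₀
  have hS₀n : S₀.Normal := by
    refine ⟨fun s hs g => ?_⟩
    rw [mem_subgroupOf] at hs ⊢
    exact ⟨T.mul_mem (T.mul_mem g.2.1 hs.1) (T.inv_mem g.2.1), (mem_normalizer_iff.1 g.2.2 _).1 hs.2⟩
  -- `S ≠ 1`
  have hS₀ne : S₀ ≠ ⊥ := by
    intro h0
    have h1 : (Q : Subgroup M) = ⊥ := by
      rw [eq_bot_iff]
      intro x hx
      have hx' : (x : X) ∈ S := ⟨(hQmem x).1 hx, x.2⟩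
      have h2 : (⟨x, hSW hx'⟩ : W₀) ∈ S₀ := by rw [mem_subgroupOf]; exact hx'
      rw [h0, mem_bot] at h2
      rw [mem_bot]
      have h2' : ((⟨x, hSW hx'⟩ : W₀) : X) = ((1 : W₀) : X) := by rw [h2]
      exact Subtype.ext h2'
    have h3 := Q.card_eq_multiplicity
    rw [show Nat.card Q = Nat.card (Q : Subgroup M) from rfl, h1, card_bot] at h3
    have h4 : 0 < (Nat.card M).factorization 2 :=
      Nat.Prime.factorization_pos_of_dvd Nat.prime_two Nat.card_pos.ne' hev
    have h5 : 1 < 2 ^ (Nat.card M).factorization 2 := Nat.one_lt_two_pow h4.ne'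
    omega
  have : Group.IsNilpotent W₀ := hW₀.isNilpotent
  have hcen := Cfsg.Agent.Lib.NormalAbelian.normal_inf_center_ne_bot S₀ hS₀ne
  obtain ⟨s₀, hs₀, hs₀1⟩ : ∃ s₀ : W₀, s₀ ∈ S₀ ⊓ center W₀ ∧ s₀ ≠ 1 := by
    by_contra hcon
    push Not at hcon
    exact hcen (eq_bot_iff.2 fun a ha => mem_bot.2 (hcon a ha))
  have hsS : (s₀ : X) ∈ S := mem_subgroupOf.1 (mem_inf.1 hs₀).1
  have hscen : ∀ w ∈ W₀, w * (s₀ : X) = s₀ * w := fun w hw =>
    congrArg Subtype.val (mem_center_iff.1 (mem_inf.1 hs₀).2 ⟨w, hw⟩)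
  have hs1 : (s₀ : X) ≠ 1 := fun h => hs₀1 (Subtype.ext h)
  -- a Sylow 2-subgroup of order two is impossible
  have hordtwo : ∀ s ∈ S, s ≠ 1 → ¬ ∀ x ∈ S, x = 1 ∨ x = s := by
    intro s hs hs1 hall
    have hs2 : s * s = 1 := by
      rcases hall (s * s) (S.mul_mem hs hs) with h | h
      · exact h
      · exact absurd (mul_eq_left.1 h) hs1
    have hQcard : Nat.card (Q : Subgroup M) = 2 := by
      have h1 : (((Q : Subgroup M) : Set M)) = {1, ⟨s, hs.2⟩} := by
        ext x
        simp only [SetLike.mem_coe, Set.mem_insert_iff, Set.mem_singleton_iff]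
        rw [hQmem]
        constructor
        · intro hx
          rcases hall x ⟨hx, x.2⟩ with h | h
          · exact Or.inl (Subtype.ext h)
          · exact Or.inr (Subtype.ext h)
        · rintro (rfl | rfl)
          · exact T.one_mem
          · exact hs.1
      rw [← SetLike.coe_sort_coe, h1, Nat.card_coe_set_eq, Set.ncard_pair]
      intro h; exact hs1 (congrArg Subtype.val h).symm
    obtain ⟨g, hg⟩ := exists_conj_of_perfect hM.2.1 Q ⊥ bot_le (by rw [relIndex_bot_left, hQcard])
      ⟨s, hs.2⟩ (Subtype.ext hs2)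
    rw [mem_bot, mul_inv_eq_one] at hg
    exact hs1 (congrArg Subtype.val (mul_eq_left.1 hg))
  have hzS : z ∈ S := by
    by_contra hzS
    have hst := hscen t htW
    rcases hC s₀ hsS.2 hst.symm with h | h | h | h
    · exact hs1 h
    · exact hzS (h ▸ hsS)
    · apply hordtwo s₀ hsS hs1
      intro x hx
      have h1 := hscen x (hSW hx)
      rw [h] at h1
      rcases hC x hx.2 h1 with h2 | h2 | h2 | h2
      · exact Or.inl h2
      · exact absurd (h2 ▸ hx) hzS
      · right; rw [h2, h]
      · exfalso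
        apply hzS
        have h3 : z = t * x := by rw [h2, ← mul_assoc, ht, one_mul]
        rw [h3]
        exact S.mul_mem (h ▸ hsS) hx
    · apply hordtwo s₀ hsS hs1
      intro x hx
      have h1 := hscen x (hSW hx)
      rw [h] at h1
      have h1' : x * t = t * x := by
        calc x * t = x * (t * z) * z := by rw [mul_assoc, mul_assoc, hz, mul_one]
          _ = t * z * x * z := by rw [h1]
          _ = t * (z * (x * z)) := by group
          _ = t * ((x * z) * z) := by rw [hzc (x * z)]
          _ = t * x := by rw [mul_assoc x, hz, mul_one]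
      rcases hC x hx.2 h1' with h2 | h2 | h2 | h2
      · exact Or.inl h2
      · exact absurd (h2 ▸ hx) hzS
      · exfalso
        apply hzS
        have h3 : z = x * s₀ := by rw [h2, h, ← mul_assoc, ht, one_mul]
        rw [h3]
        exact S.mul_mem hx hsS
      · right; rw [h2, h]
  refine ⟨hzS.2, ?_⟩
  intro v hv hvv
  by_contra hcon
  push Not at hcon
  obtain ⟨hv1, hvz⟩ := hcon
  -- conjugate `v` into `S`
  have hvp : IsPGroup 2 (zpowers (⟨v, hv⟩ : M)) := IsPGroup.of_card (n := 1) (by
    rw [Nat.card_zpowers, pow_one]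
    exact orderOf_eq_prime (by rw [pow_two]; exact Subtype.ext hvv) (fun h => hv1 (congrArg Subtype.val h)))
  obtain ⟨Q', hQ'⟩ := hvp.exists_le_sylow
  obtain ⟨g, hg⟩ := MulAction.exists_smul_eq M Q' Q
  have hvQ : g * ⟨v, hv⟩ * g⁻¹ ∈ (Q : Subgroup M) := by
    rw [← hg, Sylow.coe_subgroup_smul, Subgroup.mem_pointwise_smul_iff_inv_smul_mem]
    have h1 : (MulAut.conj g)⁻¹ • (g * ⟨v, hv⟩ * g⁻¹) = (⟨v, hv⟩ : M) := by
      rw [← map_inv]
      change g⁻¹ * (g * ⟨v, hv⟩ * g⁻¹) * g⁻¹⁻¹ = _
      group
    rw [h1]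
    exact hQ' (mem_zpowers _)
  set v' : X := (g : X) * v * (g : X)⁻¹ with hv'
  have hv'S : v' ∈ S := ⟨(hQmem _).1 hvQ, M.mul_mem (M.mul_mem g.2 hv) (M.inv_mem g.2)⟩
  have hv'v' : v' * v' = 1 := by
    calc v' * v' = g * (v * v) * (g : X)⁻¹ := by rw [hv']; group
      _ = 1 := by rw [hvv]; group
  have hv'1 : v' ≠ 1 := by
    intro h
    rw [hv', mul_inv_eq_one] at h
    exact hv1 (mul_eq_left.1 h)
  have hv'z : v' ≠ z := by
    intro h
    apply hvz
    rw [hv', mul_inv_eq_iff_eq_mul] at h
    rw [← hzc] at h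
    exact mul_left_cancel h
  -- the group `W = S⟨t⟩`
  let t₀ : W₀ := ⟨t, htW⟩
  let W : Subgroup W₀ := S₀ ⊔ zpowers t₀
  have ht₀ : t₀ * t₀ = 1 := Subtype.ext ht
  have hWmem : ∀ w ∈ W, ∃ s ∈ S₀, w = s ∨ w = s * t₀ := by
    intro w hw
    obtain ⟨s, hs, y, hy, rfl⟩ := (mem_sup_of_normal_left (s := S₀) (t := zpowers t₀)).1 hw
    refine ⟨s, hs, ?_⟩
    obtain ⟨k, rfl⟩ := mem_zpowers_iff.1 hy
    rcases Int.even_or_odd k with ⟨m, rfl⟩ | ⟨m, rfl⟩
    · left
      rw [← two_mul, zpow_mul, zpow_ofNat, pow_two, ht₀, one_zpow, mul_one]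
    · right
      rw [zpow_add, zpow_mul, zpow_ofNat, pow_two, ht₀, one_zpow, one_mul, zpow_one]
  have hzW : (⟨z, hSW hzS⟩ : W₀) ∈ W := mem_sup_left (by rw [mem_subgroupOf]; exact hzS)
  have htW' : t₀ ∈ W := mem_sup_right (mem_zpowers _)
  have hv'W : (⟨v', hSW hv'S⟩ : W₀) ∈ W := mem_sup_left (by rw [mem_subgroupOf]; exact hv'S)
  obtain ⟨C, hCidx, hCinv⟩ := exists_index_two (W := W) (hW₀.to_subgroup W)
    (z := ⟨⟨z, hSW hzS⟩, hzW⟩) (t := ⟨t₀, htW'⟩) (Subtype.ext (Subtype.ext hz))
    (fun h => hz1 (congrArg (fun x : W => ((x : W₀) : X)) h)) (Subtype.ext ht₀)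
    (fun h => ht1 (congrArg (fun x : W => ((x : W₀) : X)) h))
    (fun h => htz (congrArg (fun x : W => ((x : W₀) : X)) h))
    (fun x => Subtype.ext (Subtype.ext (hzc _))) (by
      rintro ⟨w, hw⟩ hwt
      have hwt' : (w : X) * t = t * w := congrArg (fun x : W => ((x : W₀) : X)) hwt
      obtain ⟨s, hs, h1 | h1⟩ := hWmem w hw
      · have hs' : (s : X) ∈ S := by rwa [mem_subgroupOf] at hs
        rw [h1] at hwt'
        rcases hC _ hs'.2 hwt' with h | h | h | h
        · exact Or.inl (Subtype.ext (Subtype.ext (by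
            show (w : X) = 1
            rw [h1, h])))
        · exact Or.inr (Or.inl (Subtype.ext (Subtype.ext (by
            show (w : X) = z
            rw [h1, h]))))
        · exact Or.inr (Or.inr (Or.inl (Subtype.ext (Subtype.ext (by
            show (w : X) = t
            rw [h1, h])))))
        · exact Or.inr (Or.inr (Or.inr (Subtype.ext (Subtype.ext (by
            show (w : X) = t * z
            rw [h1, h])))))
      · have hs' : (s : X) ∈ S := by rwa [mem_subgroupOf] at hs
        have hwv : (w : X) = s * t := by rw [h1]; rfl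
        have hst : (s : X) * t = t * s := by
          rw [hwv] at hwt'
          have h2 : (s : X) * t * t = s := by rw [mul_assoc, ht, mul_one]
          rw [h2] at hwt'
          calc (s : X) * t = t * (s * t) * t := by rw [← hwt']
            _ = t * s * (t * t) := by group
            _ = t * s := by rw [ht, mul_one]
        rcases hC _ hs'.2 hst with h | h | h | h
        · exact Or.inr (Or.inr (Or.inl (Subtype.ext (Subtype.ext (by
            show (w : X) = t
            rw [hwv, h, one_mul])))))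
        · exact Or.inr (Or.inr (Or.inr (Subtype.ext (Subtype.ext (by
            show (w : X) = t * z
            rw [hwv, h, hzc t])))))
        · exact Or.inl (Subtype.ext (Subtype.ext (by
            show (w : X) = 1
            rw [hwv, h, ht])))
        · exact Or.inr (Or.inl (Subtype.ext (Subtype.ext (by
            show (w : X) = z
            rw [hwv, h, mul_assoc, ← hzc t, ← mul_assoc, ht, one_mul])))))
  -- the corresponding subgroups of `X`
  let CX : Subgroup X := (C.map W.subtype).map W₀.subtype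
  let WX : Subgroup X := W.map W₀.subtype
  have hCXmem : ∀ x, x ∈ CX → x * x = 1 → x = 1 ∨ x = z := by
    rintro x ⟨y, ⟨w, hw, rfl⟩, rfl⟩ hxx
    rcases hCinv w hw (Subtype.ext (Subtype.ext hxx)) with h | h
    · left; rw [h]; rfl
    · right; rw [h]; rfl
  have hCW : CX.relIndex WX = 2 := by
    have h1 : CX.relIndex WX = (C.map W.subtype).relIndex W := by
      exact relIndex_map_map_of_injective _ _ W₀.subtype_injective
    rw [h1]
    have h2 : (C.map W.subtype).subgroupOf W = C := by
      rw [subgroupOf, comap_map_eq_self_of_injective W.subtype_injective]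
    rw [relIndex, h2, hCidx]
  have hSWX : S ≤ WX := fun x hx => ⟨⟨x, hSW hx⟩, mem_sup_left (by rw [mem_subgroupOf]; exact hx), rfl⟩
  have hv'C : v' ∉ CX := by
    intro h
    rcases hCXmem v' h hv'v' with h1 | h1
    · exact hv'1 h1
    · exact hv'z h1
  have hSC : CX.relIndex S = 2 := by
    have h1 : CX.relIndex S ≤ CX.relIndex WX := relIndex_le_of_le_right hSWX (by rw [hCW]; norm_num)
    have h2 : CX.relIndex S ≠ 1 := by
      intro h
      rw [relIndex_eq_one] at h
      exact hv'C (h hv'S)
    have h3 : CX.relIndex S ≠ 0 := by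
      intro h
      have h4 := relIndex_dvd_card CX S
      rw [h, zero_dvd_iff] at h4
      exact Nat.card_pos.ne' h4
    rw [hCW] at h1
    omega
  have hQS : (Q : Subgroup M) = S.subgroupOf M := by
    ext x
    rw [hQmem, mem_subgroupOf]
    exact ⟨fun h => ⟨h, x.2⟩, fun h => h.1⟩
  have hidx : ((CX ⊓ S).subgroupOf M).relIndex (Q : Subgroup M) = 2 := by
    rw [hQS, relIndex_subgroupOf inf_le_right, inf_relIndex_right, hSC]
  obtain ⟨k, hk⟩ := exists_conj_of_perfect hM.2.1 Q ((CX ⊓ S).subgroupOf M)
    (by rw [hQS]; exact fun x hx => hx.2) hidx ⟨v', hv'S.2⟩ (Subtype.ext hv'v')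
  rw [mem_subgroupOf] at hk
  have hk1 := hCXmem _ hk.1 (by
    show (k : X) * v' * (k : X)⁻¹ * ((k : X) * v' * (k : X)⁻¹) = 1
    calc (k : X) * v' * (k : X)⁻¹ * ((k : X) * v' * (k : X)⁻¹) = k * (v' * v') * (k : X)⁻¹ := by group
      _ = 1 := by rw [hv'v']; group)
  have hk2 : (k : X) * v' * (k : X)⁻¹ = 1 ∨ (k : X) * v' * (k : X)⁻¹ = z := hk1
  rcases hk2 with h | h
  · rw [mul_inv_eq_one] at h
    exact hv'1 (mul_eq_left.1 h)
  · rw [mul_inv_eq_iff_eq_mul, ← hzc] at h
    exact hv'z (mul_left_cancel h)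

end Cfsg.Agent.OddHalf.CaseM
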